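import Cfsg.Agent.H85.ElemEight.Local
import Cfsg.Agent.S0217
import Cfsg.Agent.S0205
import Cfsg.Agent.S0223

/-!
# The signalizer closure and the strongly embedded subgroup
-/

set_option autoImplicit false
set_option linter.unusedSectionVars false
set_option linter.style.haveILetI false

namespace Cfsg.Agent.H85.ElemEight

open Subgroup Cfsg

universe u

variable {G : Type u} [Group G] [Finite G] (P : Sylow 2 G)

/-- The closure of the cores of the centralisers. -/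
noncomputable def bigW : Subgroup G :=
  ⨆ a : {a : G // a ∈ (P : Subgroup G) ∧ a ≠ 1}, coreAt a.1

/-- The closure extended by the normalizer. -/
noncomputable def bigM : Subgroup G := bigW P ⊔ normalizer ((P : Subgroup G) : Set G)

variable {P}

theorem coreAt_le_bigW {a : G} (ha : a ∈ (P : Subgroup G)) (ha1 : a ≠ 1) : coreAt a ≤ bigW P :=
  le_iSup (fun a : {a : G // a ∈ (P : Subgroup G) ∧ a ≠ 1} => coreAt a.1) ⟨a, ha, ha1⟩

theorem bigW_le_bigM : bigW P ≤ bigM P := le_sup_left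

theorem normalizer_le_bigM : normalizer ((P : Subgroup G) : Set G) ≤ bigM P := le_sup_right

theorem sylow_le_bigM : (P : Subgroup G) ≤ bigM P := le_normalizer.trans normalizer_le_bigM

theorem Hyp.closure_spec (h : Hyp P) :
    Odd (Nat.card (bigW P)) ∧
      ∀ a ∈ (P : Subgroup G), a ≠ 1 → bigW P ⊓ centralizer ({a} : Set G) = coreAt a := by
  haveI : Fact (Nat.Prime 2) := ⟨Nat.prime_two⟩
  have hs := S0217.result (p := 2) (P : Subgroup G) h.comm h.sq (by rw [h.card]; norm_num) coreAt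
    (fun a _ _ => coreAt_le a)
    (fun a _ _ => by have := odd_card_coreAt a; rw [Nat.odd_iff] at this; omega)
    (fun a ha _ b hb x hx => conj_mem_coreAt (h.le_centralizer_singleton ha hb) hx)
    (fun a _ _ => S0205.result (odd_card_coreAt a))
    (fun a ha _ b hb hb1 => h.balance ha hb hb1)
  refine ⟨?_, hs.2⟩
  rw [Nat.odd_iff]
  have h1 := hs.1
  change ¬ 2 ∣ Nat.card (bigW P) at h1
  omega

theorem normalizer_le_normalizer_bigW :
    normalizer ((P : Subgroup G) : Set G) ≤ normalizer (bigW P : Set G) := by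
  have key : ∀ m ∈ normalizer ((P : Subgroup G) : Set G), ∀ x ∈ bigW P, m * x * m⁻¹ ∈ bigW P := by
    intro m hm
    have hle : bigW P ≤ (bigW P).comap (MulAut.conj m).toMonoidHom := by
      refine iSup_le fun a => ?_
      intro x hx
      show m * x * m⁻¹ ∈ bigW P
      exact coreAt_le_bigW ((mem_normalizer_iff.1 hm a.1).1 a.2.1)
        (fun e => a.2.2 (conj_eq_one_iff.1 e)) (conj_coreAt m hx)
    exact fun x hx => hle hx
  intro n hn
  refine mem_normalizer_iff.2 fun x => ⟨key n hn x, fun hx => ?_⟩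
  have := key n⁻¹ (inv_mem hn) _ hx
  simpa [mul_assoc] using this

theorem bigM_le_normalizer : bigM P ≤ normalizer (bigW P : Set G) :=
  sup_le le_normalizer normalizer_le_normalizer_bigW

theorem Hyp.centralizer_le_bigM (h : Hyp P) {a : G} (ha : a ∈ (P : Subgroup G)) (ha1 : a ≠ 1) :
    centralizer ({a} : Set G) ≤ bigM P :=
  (h.centralizer_facts ha ha1).1.trans
    (sup_le ((coreAt_le_bigW ha ha1).trans bigW_le_bigM) normalizer_le_bigM)

theorem Hyp.exists_ne_one (h : Hyp P) : ∃ a ∈ (P : Subgroup G), a ≠ 1 := by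
  haveI : Nontrivial (P : Subgroup G) :=
    Finite.one_lt_card_iff_nontrivial.1 (by rw [h.card]; norm_num)
  obtain ⟨a, ha⟩ := exists_ne (1 : (P : Subgroup G))
  exact ⟨a, a.2, fun e => ha (Subtype.ext e)⟩

theorem Hyp.eq_one_of_mem (h : Hyp P) {x : G} (hx : x ∈ (P : Subgroup G)) (hW : x ∈ bigW P) :
    x = 1 := by
  by_contra hx1
  have ho := h.orderOf_eq hx hx1
  have hd := orderOf_dvd_natCard (G := bigW P) ⟨x, hW⟩
  rw [orderOf_mk, ho] at hd
  have := h.closure_spec.1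
  rw [Nat.odd_iff] at this
  omega

theorem Hyp.bigM_ne_top (h : Hyp P) [IsSimpleGroup G] (hna : ¬ IsMulCommutative G) :
    bigM P ≠ ⊤ := by
  intro htop
  have hn : (bigW P).Normal :=
    normalizer_eq_top_iff.1 (top_le_iff.1 (htop ▸ bigM_le_normalizer))
  obtain ⟨a, ha, ha1⟩ := h.exists_ne_one
  rcases hn.eq_bot_or_eq_top with hb | hb
  · have hNtop : normalizer ((P : Subgroup G) : Set G) = ⊤ := by
      rw [← htop, bigM, hb, bot_sup_eq]
    rcases (normalizer_eq_top_iff.1 hNtop).eq_bot_or_eq_top with hP | hP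
    · exact ha1 (Subgroup.mem_bot.1 (hP ▸ ha))
    · exact hna ⟨⟨fun x y => h.comm x (hP ▸ mem_top x) y (hP ▸ mem_top y)⟩⟩
  · exact ha1 (h.eq_one_of_mem ha (hb ▸ mem_top a))

/-- An involution of a subgroup containing the Sylow subgroup is conjugate into it there. -/
theorem exists_conj_sylow {H : Subgroup G} (hle : (P : Subgroup G) ≤ H) {t : G}
    (htM : t ∈ H) (ht : orderOf t = 2) : ∃ m ∈ H, m * t * m⁻¹ ∈ (P : Subgroup G) := by
  haveI : Fact (Nat.Prime 2) := ⟨Nat.prime_two⟩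
  set Q := P.subtype hle
  have hz : IsPGroup 2 (zpowers (⟨t, htM⟩ : H)) :=
    IsPGroup.of_card (n := 1) (by rw [Nat.card_zpowers, orderOf_mk, ht, pow_one])
  obtain ⟨S, hS⟩ := hz.exists_le_sylow
  obtain ⟨g, hg⟩ := MulAction.exists_smul_eq H S Q
  have hmem : g * ⟨t, htM⟩ * g⁻¹ ∈ (Q : Subgroup H) := by
    rw [← hg, Sylow.coe_subgroup_smul]
    exact ⟨_, hS (mem_zpowers _), rfl⟩
  exact ⟨g, g.2, hmem⟩

theorem Hyp.centralizer_le_bigM' (h : Hyp P) {t : G} (ht : t ∈ bigM P) (ht2 : orderOf t = 2) :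
    centralizer ({t} : Set G) ≤ bigM P := by
  obtain ⟨m, hm, hmP⟩ := exists_conj_sylow sylow_le_bigM ht ht2
  intro c hc
  have h1 : m * t * m⁻¹ ≠ 1 := fun e => by
    rw [conj_eq_one_iff.1 e, orderOf_one] at ht2; omega
  have hc' : m * c * m⁻¹ ∈ bigM P := by
    refine h.centralizer_le_bigM hmP h1 (mem_centralizer_singleton_iff.2 ?_)
    calc m * c * m⁻¹ * (m * t * m⁻¹) = m * (c * t) * m⁻¹ := by group
      _ = m * (t * c) * m⁻¹ := by rw [mem_centralizer_singleton_iff.1 hc]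
      _ = _ := by group
  have := mul_mem (mul_mem (inv_mem hm) hc') hm
  simpa [mul_assoc] using this

theorem Hyp.stronglyEmbedded (h : Hyp P) [IsSimpleGroup G] (hna : ¬ IsMulCommutative G) :
    IsStronglyEmbedded (bigM P) := by
  haveI : Fact (Nat.Prime 2) := ⟨Nat.prime_two⟩
  have heven : Even (Nat.card (bigM P)) := by
    obtain ⟨a, ha, ha1⟩ := h.exists_ne_one
    rw [even_iff_two_dvd, ← h.orderOf_eq ha ha1, ← orderOf_mk a (sylow_le_bigM ha)]
    exact orderOf_dvd_natCard _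
  refine (S0223.result (bigM P) (h.bigM_ne_top hna) heven).2
    ⟨fun t ht htt => h.centralizer_le_bigM' ht htt, ?_⟩
  intro t ht s hs htt hss hconj
  haveI : IsMulCommutative (P : Subgroup G) :=
    ⟨⟨fun x y => Subtype.ext (h.comm x x.2 y y.2)⟩⟩
  obtain ⟨m, hm, hmP⟩ := exists_conj_sylow sylow_le_bigM ht htt
  obtain ⟨m', hm', hmP'⟩ := exists_conj_sylow sylow_le_bigM hs hss
  obtain ⟨g, hg⟩ := isConj_iff.1 hconj
  obtain ⟨n, hn, he⟩ := P.conj_eq_normalizer_conj_of_mem (m * t * m⁻¹) (m * g⁻¹ * m'⁻¹) hmP (by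
    rw [show (m * g⁻¹ * m'⁻¹)⁻¹ * (m * t * m⁻¹) * (m * g⁻¹ * m'⁻¹) =
      m' * (g * t * g⁻¹) * m'⁻¹ by group, hg]
    exact hmP')
  refine ⟨m'⁻¹ * n⁻¹ * m, mul_mem (mul_mem (inv_mem hm') (inv_mem (normalizer_le_bigM hn))) hm, ?_⟩
  rw [show (m * g⁻¹ * m'⁻¹)⁻¹ * (m * t * m⁻¹) * (m * g⁻¹ * m'⁻¹) =
    m' * (g * t * g⁻¹) * m'⁻¹ by group, hg] at he
  calc m'⁻¹ * n⁻¹ * m * t * (m'⁻¹ * n⁻¹ * m)⁻¹
      = m'⁻¹ * (n⁻¹ * (m * t * m⁻¹) * n) * m' := by group
    _ = m'⁻¹ * (m' * s * m'⁻¹) * m' := by rw [← he]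
    _ = s := by group

end Cfsg.Agent.H85.ElemEight
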