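import Cfsg.Agent.H85.ElemEight.Strong
import Cfsg.Agent.Cores.PrincipalSection
import Cfsg.Agent.BlockBasic.SingleBlock
import Cfsg.Agent.H84.SelfCentralLocal

/-!
# Coset sums of characters in the sections of the involutions
-/

set_option autoImplicit false
set_option linter.unusedSectionVars false
set_option linter.style.haveILetI false

open scoped ComplexConjugate

namespace Cfsg.Agent.H85.ElemEight

open Subgroup Cfsg CharBasic BlockBasic

universe u

variable {G : Type u} [Group G] [Finite G] {P : Sylow 2 G}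

theorem exists_odd_pow_eq_one {b c k : G} (hc : c ∈ centralizer ({b} : Set G))
    (hodd : Odd (orderOf c)) (hk : k ∈ coreAt b) : ∃ m : ℕ, Odd m ∧ (c * k) ^ m = 1 := by
  obtain ⟨k0, hk0, rfl⟩ := hk
  let C := centralizer ({b} : Set G)
  set x : C := ⟨c, hc⟩ * k0
  set n := orderOf c
  have hxn : x ^ n ∈ pPrimeCore 2 C := by
    rw [← QuotientGroup.eq_one_iff, ← QuotientGroup.mk'_apply, map_pow, map_mul,
      show QuotientGroup.mk' (pPrimeCore 2 C) k0 = 1 from (QuotientGroup.eq_one_iff k0).2 hk0,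
      mul_one, ← map_pow, show (⟨c, hc⟩ : C) ^ n = 1 from Subtype.ext (pow_orderOf_eq_one c),
      map_one]
  refine ⟨n * Nat.card (pPrimeCore 2 C), hodd.mul Cores.odd_card_oddCore, ?_⟩
  have h : (x ^ n) ^ Nat.card (pPrimeCore 2 C) = 1 :=
    congrArg Subtype.val (pow_card_eq_one' (x := (⟨x ^ n, hxn⟩ : pPrimeCore 2 C)))
  rw [← pow_mul] at h
  exact congrArg Subtype.val h

/-- The conjugates of `b c K` by the closure fill the coset `b c W` evenly. -/
theorem Hyp.coset_fibre (h : Hyp P) {b : G} (hb : b ∈ (P : Subgroup G)) (hb1 : b ≠ 1) {c : G}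
    (hc : c ∈ centralizer ({b} : Set G)) (hcM : c ∈ bigM P) (hodd : Odd (orderOf c))
    [Fintype (bigW P)] [Fintype (coreAt b)] {F : G → ℂ} (hF : IsClassFunction G F) :
    (∀ w ∈ bigW P, ∃ u : G, ∃ k ∈ coreAt b, u * (b * c * k) * u⁻¹ = b * c * w) ∧
      (Nat.card (coreAt b) : ℂ) * ∑ w : bigW P, F (b * c * w) =
        (Nat.card (bigW P) : ℂ) * ∑ k : coreAt b, F (b * c * k) := by
  classical
  obtain ⟨hWodd, hWinf⟩ := h.closure_spec
  set x := b * c with hx
  have hxN : x⁻¹ ∈ normalizer (bigW P : Set G) :=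
    inv_mem (bigM_le_normalizer (mul_mem (sylow_le_bigM hb) hcM))
  have hKW : coreAt b ≤ bigW P := coreAt_le_bigW hb hb1
  have hmem : ∀ (u : bigW P) (k : coreAt b), x⁻¹ * u * x * k * (u : G)⁻¹ ∈ bigW P := fun u k => by
    refine mul_mem (mul_mem ?_ (hKW k.2)) (inv_mem u.2)
    simpa using (mem_normalizer_iff.1 hxN u).1 u.2
  set Φ : bigW P × coreAt b → bigW P := fun p => ⟨_, hmem p.1 p.2⟩ with hΦ
  have hΦval : ∀ p, (p.1 : G) * (x * p.2) * (p.1 : G)⁻¹ = x * (Φ p : G) := fun p => by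
    simp only [hΦ]; group
  have hpow : ∀ k : coreAt b, ∀ m : ℕ, Odd m → (c * (k : G)) ^ m = 1 → (x * k) ^ m = b := by
    intro k m hm h1
    have hcomm : Commute b (c * (k : G)) :=
      Commute.mul_right (mem_centralizer_singleton_iff.1 hc).symm
        (mem_centralizer_singleton_iff.1 (coreAt_le b k.2)).symm
    obtain ⟨j, rfl⟩ := hm
    rw [hx, mul_assoc, hcomm.mul_pow, h1, mul_one, pow_succ, pow_mul, h.sq b hb, one_pow, one_mul]
  have hle : ∀ w : bigW P, (Finset.univ.filter fun p => Φ p = w).card ≤ Nat.card (coreAt b) := by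
    intro w
    rcases (Finset.univ.filter fun p => Φ p = w).eq_empty_or_nonempty with he | ⟨p₀, hp₀⟩
    · rw [he]; exact Nat.zero_le _
    rw [Finset.mem_filter] at hp₀
    have hcore : ∀ p, Φ p = w → (p₀.1 : G)⁻¹ * p.1 ∈ coreAt b := by
      intro p hp
      have e : (p.1 : G) * (x * p.2) * (p.1 : G)⁻¹ = (p₀.1 : G) * (x * p₀.2) * (p₀.1 : G)⁻¹ := by
        rw [hΦval, hΦval, hp, hp₀.2]
      obtain ⟨m1, hm1, e1⟩ := exists_odd_pow_eq_one hc hodd p.2.2
      obtain ⟨m2, hm2, e2⟩ := exists_odd_pow_eq_one hc hodd p₀.2.2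
      have hm : Odd (m1 * m2) := hm1.mul hm2
      have e1' : (c * (p.2 : G)) ^ (m1 * m2) = 1 := by rw [pow_mul, e1, one_pow]
      have e2' : (c * (p₀.2 : G)) ^ (m1 * m2) = 1 := by rw [mul_comm, pow_mul, e2, one_pow]
      have e' := congrArg (fun z => z ^ (m1 * m2)) e
      rw [conj_pow, conj_pow, hpow _ _ hm e1', hpow _ _ hm e2'] at e'
      refine SetLike.le_def.1 (hWinf b hb hb1).le (Subgroup.mem_inf.2
        ⟨mul_mem (inv_mem p₀.1.2) p.1.2, mem_centralizer_singleton_iff.2 ?_⟩)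
      calc (p₀.1 : G)⁻¹ * p.1 * b
          = (p₀.1 : G)⁻¹ * ((p.1 : G) * b * (p.1 : G)⁻¹) * p.1 := by group
        _ = (p₀.1 : G)⁻¹ * ((p₀.1 : G) * b * (p₀.1 : G)⁻¹) * p.1 := by rw [e']
        _ = b * ((p₀.1 : G)⁻¹ * p.1) := by group
    rw [Nat.card_eq_fintype_card, ← Finset.card_univ]
    refine Finset.card_le_card_of_injOn
      (fun p => if hp : Φ p = w then (⟨_, hcore p hp⟩ : coreAt b) else 1)
      (fun _ _ => Finset.mem_univ _) ?_
    intro p hp p' hp' e
    simp only [Finset.coe_filter, Set.mem_ofPred_eq] at hp hp'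
    simp only [hp.2, hp'.2, dite_true] at e
    have h1 : p.1 = p'.1 := Subtype.ext (mul_left_cancel (congrArg Subtype.val e))
    refine Prod.ext h1 (Subtype.ext ?_)
    have e2 := congrArg Subtype.val (hp.2.trans hp'.2.symm)
    simp only [hΦ, ← h1] at e2
    exact mul_left_cancel (mul_right_cancel e2)
  have hall : ∀ w : bigW P,
      (Finset.univ.filter fun p => Φ p = w).card = Nat.card (coreAt b) := by
    have htot : ∑ w : bigW P, (Finset.univ.filter fun p => Φ p = w).card =
        ∑ _w : bigW P, Nat.card (coreAt b) := by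
      rw [← Finset.card_eq_sum_card_fiberwise (fun _ _ => Finset.mem_univ _), Finset.card_univ,
        Fintype.card_prod, Finset.sum_const, Finset.card_univ, smul_eq_mul,
        ← Nat.card_eq_fintype_card (α := coreAt b)]
    exact fun w => (Finset.sum_eq_sum_iff_of_le fun w _ => hle w).1 htot w (Finset.mem_univ w)
  refine ⟨fun w hw => ?_, ?_⟩
  · have hne : (Finset.univ.filter fun p => Φ p = ⟨w, hw⟩).Nonempty := by
      rw [← Finset.card_pos, hall]
      exact Nat.card_pos
    obtain ⟨p, hp⟩ := hne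
    refine ⟨p.1, p.2, p.2.2, ?_⟩
    rw [hΦval, (Finset.mem_filter.1 hp).2]
  · have h1 : ∑ p : bigW P × coreAt b, F (x * (Φ p : G)) =
        (Nat.card (coreAt b) : ℂ) * ∑ w : bigW P, F (x * w) := by
      rw [← Finset.sum_fiberwise_of_maps_to (g := Φ) (fun _ _ => Finset.mem_univ _)
        (fun p => F (x * (Φ p : G))), Finset.mul_sum]
      refine Finset.sum_congr rfl fun w _ => ?_
      rw [Finset.sum_congr rfl (g := fun _ => F (x * w)) fun p hp => by
        rw [(Finset.mem_filter.1 hp).2], Finset.sum_const, hall, nsmul_eq_mul]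
    have h2 : ∀ p : bigW P × coreAt b, F (x * (Φ p : G)) = F (x * p.2) := fun p => by
      rw [← hΦval, hF]
    rw [← h1, Finset.sum_congr rfl fun p _ => h2 p, Fintype.sum_prod_type]
    simp [Finset.sum_const, Nat.card_eq_fintype_card]

variable {M : Ideal AlgInt}

/-- A character outside the principal block has vanishing sums over the cosets of the closure
in the sections of involutions. -/
theorem Hyp.sum_coset_eq_zero (h : Hyp P) (hM : IsPModular 2 M) {b : G}
    (hb : b ∈ (P : Subgroup G)) (hb1 : b ≠ 1) {c : G} (hc : c ∈ centralizer ({b} : Set G))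
    (hcM : c ∈ bigM P) (hodd : Odd (orderOf c)) [Fintype (bigW P)] {ζ : IrrCharacter G}
    (hζ : ζ ∉ principalBlock M G) : ∑ w : bigW P, (ζ : G → ℂ) (b * c * w) = 0 := by
  classical
  haveI : Fact (Nat.Prime 2) := ⟨Nat.prime_two⟩
  cases nonempty_fintype G
  set C := centralizer ({b} : Set G) with hC
  set K0 := pPrimeCore 2 C with hK0
  haveI : Fintype C := Fintype.ofFinite _
  haveI : Fintype K0 := Fintype.ofFinite _
  haveI : Fintype (coreAt b) := Fintype.ofFinite _
  have hKp : ¬ 2 ∣ Nat.card K0 := Cores.not_dvd_card_pPrimeCore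
  set θ : C → ℂ := fun z => (ζ : G → ℂ) (b * (z : G)) with hθ
  set y : C := ⟨c, hc⟩ with hy
  have hyreg : ¬ 2 ∣ orderOf y := by
    rw [orderOf_mk]
    rw [Nat.odd_iff] at hodd
    omega
  set b0 := principalBlock M C with hb0
  let θ1 : IrrCharacter K0 := ⟨fun _ => 1, isIrrCharacter_one⟩
  obtain ⟨B, hB, hmem, -, -, -⟩ := BlockBasic.single_block_over_pPrimeCore hM
    (h.constrained hb hb1) K0 rfl (θ := θ1) (fun d => Subtype.ext (funext fun n => by
      rw [H80.conjTwist_apply]))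
  have hb0iff : ∀ ψ : IrrCharacter C,
      ψ ∈ b0 ↔ classInner (fun n : K0 => (ψ : C → ℂ) n) (fun _ => 1) ≠ 0 := by
    have htriv : (⟨fun _ => 1, isIrrCharacter_one⟩ : IrrCharacter C) ∈ B := by
      rw [hmem]
      show classInner (fun _ : K0 => (1 : ℂ)) (fun _ => 1) ≠ 0
      rw [classInner_irr_self isIrrCharacter_one]
      exact one_ne_zero
    have hBb : B = b0 := BlockBasic.isPBlock_eq_of_mem hM hB (isPBlock_principalBlock M) htriv
      (BlockBasic.sameBlock_refl hM _)
    intro ψ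
    rw [← hBb]
    exact hmem ψ
  have hsum : ∀ ψ : IrrCharacter C, ∑ k : K0, (ψ : C → ℂ) (y * k) =
      if ψ ∈ b0 then (Nat.card K0 : ℂ) * (ψ : C → ℂ) y else 0 := by
    intro ψ
    split_ifs with hψ
    · have hk : ∀ k : K0, (ψ : C → ℂ) (y * k) = (ψ : C → ℂ) y := fun k => by
        obtain ⟨N, -, hN1, hN2⟩ := IsChar.exists_kernel (IsIrr.isCharacter ψ.2)
        exact hN2 y k ((hN1 k).2 (H82.apply_eq_of_mem_principalBlock hM hψ K0 hKp k.2))
      rw [Finset.sum_congr rfl fun k _ => hk k, Finset.sum_const, Finset.card_univ, nsmul_eq_mul,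
        Nat.card_eq_fintype_card]
    · refine H84.sum_coset_eq_zero K0 ψ ?_ y
      by_contra hcon
      push Not at hcon
      refine hψ ((hb0iff ψ).2 ?_)
      rw [classInner_def, Finset.sum_congr rfl (g := fun _ => (ψ : C → ℂ) 1) fun k _ => by
        rw [hcon k k.2, map_one, mul_one], Finset.sum_const, Finset.card_univ, nsmul_eq_mul,
        Nat.card_eq_fintype_card, ← mul_assoc, inv_mul_cancel₀ (Nat.cast_ne_zero.2
          Fintype.card_ne_zero), one_mul]
      exact IsIrr.one_ne_zero ψ.2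
  have hexp : ∀ z : C, θ z = ∑ ψ : IrrCharacter C, classInner θ (ψ : C → ℂ) * (ψ : C → ℂ) z :=
    fun z => by
      have hcl : IsClassFunction C θ := Cores.isClassFunction_shift (IsIrr.isClassFunction ζ.2)
      rw [congrFun (classFunction_expansion hcl) z]
      simp only [Finset.sum_apply, Pi.smul_apply, smul_eq_mul]
  have hK : ∑ k : K0, θ (y * k) = 0 := by
    rw [Finset.sum_congr rfl fun (k : K0) _ => hexp (y * (k : C)), Finset.sum_comm]
    simp only [← Finset.mul_sum, hsum, mul_ite, mul_zero]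
    rw [← Finset.sum_filter]
    have hp := Cores.principal_part_eq hM (e := 1) (x := b)
      (by rw [pow_one]; exact h.orderOf_eq hb hb1) ζ y hyreg
    rw [if_neg hζ] at hp
    calc ∑ ψ : IrrCharacter C with ψ ∈ b0,
          classInner θ (ψ : C → ℂ) * ((Nat.card K0 : ℂ) * (ψ : C → ℂ) y)
        = (Nat.card K0 : ℂ) * ∑ ψ : IrrCharacter C with ψ ∈ b0,
          classInner θ (ψ : C → ℂ) * (ψ : C → ℂ) y := by
          rw [Finset.mul_sum]; exact Finset.sum_congr rfl fun ψ _ => by ring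
      _ = 0 := by rw [hp, mul_zero]
  have hK' : ∑ k : coreAt b, (ζ : G → ℂ) (b * c * k) = 0 := by
    rw [← hK]
    let eK : K0 ≃ coreAt b := (K0.equivMapOfInjective C.subtype C.subtype_injective).toEquiv
    refine (Fintype.sum_equiv eK
      (fun k => θ (y * k)) (fun k : coreAt b => (ζ : G → ℂ) (b * c * k)) fun k => ?_).symm
    simp only [hθ, hy, Subgroup.coe_mul, mul_assoc]
    rfl
  have h2 := (h.coset_fibre hb hb1 hc hcM hodd (IsIrr.isClassFunction ζ.2)).2
  rw [hK', mul_zero] at h2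
  exact (mul_eq_zero.1 h2).resolve_left (Nat.cast_ne_zero.2 Nat.card_pos.ne')

/-- A character of the principal block is constant on `b W`. -/
theorem Hyp.principal_apply (h : Hyp P) (hM : IsPModular 2 M) {b : G}
    (hb : b ∈ (P : Subgroup G)) (hb1 : b ≠ 1) {χ : IrrCharacter G}
    (hχ : χ ∈ principalBlock M G) {w : G} (hw : w ∈ bigW P) :
    (χ : G → ℂ) (b * w) = (χ : G → ℂ) b := by
  haveI : Fact (Nat.Prime 2) := ⟨Nat.prime_two⟩
  cases nonempty_fintype (bigW P)
  cases nonempty_fintype (coreAt b)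
  obtain ⟨u, k, hk, e⟩ := (h.coset_fibre hb hb1 (c := 1) (one_mem _) (one_mem _)
    (by rw [orderOf_one]; exact odd_one) (IsIrr.isClassFunction χ.2)).1 w hw
  rw [mul_one] at e
  rw [← e, IsIrr.isClassFunction χ.2]
  obtain ⟨k0, hk0, rfl⟩ := hk
  exact Cores.principalBlock_apply_mul hM (e := 1)
    (by rw [pow_one]; exact h.orderOf_eq hb hb1) hχ _ Cores.not_dvd_card_pPrimeCore hk0

end Cfsg.Agent.H85.ElemEight
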