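import Mathlib

/-!
# The coefficient pattern of three coherent characters of norm four is impossible
-/

set_option autoImplicit false

namespace Cfsg.Agent.H85.ElemEight

open Finset

/-- The arithmetic of the case of one common pair. -/
theorem arith_same {b x y : ℤ} (hb : b ≠ 0) (hx : x ≠ 0) (hy : y ≠ 0) (hb1 : b ≠ -1) (hx1 : x ≠ 1)
    (hy1 : y ≠ 1) (hdeg : x + y = 1 + b) (heq : (1 : ℚ) + 1 / b = 1 / x + 1 / y) : False := by
  have hbq : (b : ℚ) ≠ 0 := Int.cast_ne_zero.2 hb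
  have hxq : (x : ℚ) ≠ 0 := Int.cast_ne_zero.2 hx
  have hyq : (y : ℚ) ≠ 0 := Int.cast_ne_zero.2 hy
  field_simp at heq
  have hz : (b + 1) * (x * y) = (x + y) * b := by exact_mod_cast (by linear_combination heq : ((b : ℚ) + 1) * (x * y) = (x + y) * b)
  rw [hdeg, add_comm 1 b] at hz
  have hxy : x * y = b := mul_left_cancel₀ (by omega) hz
  have : (x - 1) * (y - 1) = 0 := by linear_combination hxy - hdeg
  rcases mul_eq_zero.1 this with h | h <;> omega

/-- The arithmetic of the case of two different pairs. -/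
theorem arith_diff {b x y : ℤ} (hb : b ≠ 0) (hx : x ≠ 0) (hy : y ≠ 0) (hy1 : y ≠ 1)
    (hdeg : x + y = 1 + b) (hcong : ∃ k : ℤ, b = 8 * k + 2) (hrange : 0 < b ∨ b ≤ -14)
    (heq : (1 : ℚ) + 4 / b = 4 / x + 1 / y) : False := by
  have hbq : (b : ℚ) ≠ 0 := Int.cast_ne_zero.2 hb
  have hxq : (x : ℚ) ≠ 0 := Int.cast_ne_zero.2 hx
  have hyq : (y : ℚ) ≠ 0 := Int.cast_ne_zero.2 hy
  field_simp at heq
  have hz : (b + 4) * (x * y) = 4 * b * y + b * x := by
    exact_mod_cast (by linear_combination heq : ((b : ℚ) + 4) * (x * y) = 4 * b * y + b * x)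
  have hy' : y = 1 + b - x := by omega
  subst hy'
  have hfac : (x - b) * ((b + 4) * x - 4 * (b + 1)) = 0 := by linear_combination -hz
  obtain ⟨k, rfl⟩ := hcong
  rcases mul_eq_zero.1 hfac with h | h
  · omega
  · have h12 : (8 * k + 2 + 4) * (x - 4) = -12 := by linear_combination h
    have hle : 8 * k + 2 + 4 ∣ (12 : ℤ) := ⟨-(x - 4), by linear_combination h12⟩
    have h1 := Int.le_of_dvd (by norm_num) hle
    have h2 := Int.le_of_dvd (by norm_num) ((neg_dvd).2 hle)
    rcases (by omega : k = 0 ∨ k = -2) with rfl | rfl <;> norm_num at h12 <;> omega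

variable {ι : Type*} [Fintype ι] [DecidableEq ι]

theorem norm_four_one {o : ι} {f : ι → ℤ} (ho : f o = 1) (hsq : ∑ χ, f χ * f χ = 4) :
    (∀ χ, f χ = -1 ∨ f χ = 0 ∨ f χ = 1) ∧
      #(univ.filter fun χ => χ ≠ o ∧ f χ ≠ 0) = 3 := by
  have h3 : ∑ χ ∈ univ.erase o, f χ * f χ = 3 := by
    have h := Finset.add_sum_erase univ (fun χ => f χ * f χ) (mem_univ o)
    simp only [ho] at h
    omega
  have hval : ∀ χ, f χ = -1 ∨ f χ = 0 ∨ f χ = 1 := fun χ => by
    by_cases hχ : χ = o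
    · rw [hχ, ho]; omega
    have h := Finset.single_le_sum (f := fun χ => f χ * f χ) (fun i _ => mul_self_nonneg (f i))
      (mem_erase.2 ⟨hχ, mem_univ χ⟩)
    simp only [h3] at h
    have : -2 < f χ ∧ f χ < 2 := ⟨by nlinarith, by nlinarith⟩
    omega
  refine ⟨hval, ?_⟩
  have h : ∑ χ ∈ univ.filter (fun χ => χ ≠ o ∧ f χ ≠ 0), (1 : ℤ) = 3 := by
    rw [← h3, show univ.filter (fun χ => χ ≠ o ∧ f χ ≠ 0) = (univ.erase o).filter (fun χ => f χ ≠ 0) by
      ext χ; simp]
    rw [Finset.sum_filter]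
    refine Finset.sum_congr rfl fun χ _ => ?_
    rcases hval χ with h | h | h <;> simp [h]
  simp only [Finset.sum_const, nsmul_eq_mul, mul_one] at h
  exact_mod_cast h

theorem norm_four_zero {d : ι → ℕ} (hd : ∀ χ, 0 < d χ) {f : ι → ℤ}
    (hsq : ∑ χ, f χ * f χ = 4) (hdeg : ∑ χ, f χ * d χ = 0) :
    (∀ χ, f χ = -1 ∨ f χ = 0 ∨ f χ = 1) ∧ #(univ.filter fun χ => f χ ≠ 0) = 4 := by
  have hval : ∀ χ, f χ = -1 ∨ f χ = 0 ∨ f χ = 1 := fun χ => by
    have h := Finset.single_le_sum (f := fun χ => f χ * f χ) (fun i _ => mul_self_nonneg (f i))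
      (mem_univ χ)
    simp only [hsq] at h
    have hb : -3 < f χ ∧ f χ < 3 := ⟨by nlinarith, by nlinarith⟩
    by_contra hne
    have h4 : f χ * f χ = 4 := by
      rcases (by omega : f χ = 2 ∨ f χ = -2) with h | h <;> rw [h] <;> norm_num
    have hrest : ∑ ψ ∈ univ.erase χ, f ψ * f ψ = 0 := by
      have h' := Finset.add_sum_erase univ (fun χ => f χ * f χ) (mem_univ χ)
      simp only [h4, hsq] at h'
      omega
    rw [Finset.sum_eq_single χ (fun ψ _ hψ => by
      have := (Finset.sum_eq_zero_iff_of_nonneg (fun i _ => mul_self_nonneg (f i))).1 hrest ψ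
        (mem_erase.2 ⟨hψ, mem_univ ψ⟩)
      rw [mul_self_eq_zero] at this
      rw [this, zero_mul]) (fun h => absurd (mem_univ χ) h)] at hdeg
    have := hd χ
    rcases mul_eq_zero.1 hdeg with h | h <;> omega
  refine ⟨hval, ?_⟩
  have h : ∑ χ ∈ univ.filter (fun χ => f χ ≠ 0), (1 : ℤ) = 4 := by
    rw [← hsq, Finset.sum_filter]
    refine Finset.sum_congr rfl fun χ _ => ?_
    rcases hval χ with h | h | h <;> simp [h]
  simp only [Finset.sum_const, nsmul_eq_mul, mul_one] at h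
  exact_mod_cast h

/-- Two of the three nontrivial constituents are shared with equal signs. -/
theorem exists_shared {o : ι} {n m : ι → ℤ} (_hn1 : n o = 1) (hm1 : m o = 0)
    (hn : ∀ χ, n χ = -1 ∨ n χ = 0 ∨ n χ = 1) (hm : ∀ χ, m χ = -1 ∨ m χ = 0 ∨ m χ = 1)
    (hN : #(univ.filter fun χ => χ ≠ o ∧ n χ ≠ 0) = 3) (hM : #(univ.filter fun χ => m χ ≠ 0) = 4)
    (hnm : ∑ χ, n χ * m χ = 2) :
    ∃ c d e, c ≠ o ∧ d ≠ o ∧ e ≠ o ∧ c ≠ d ∧ c ≠ e ∧ d ≠ e ∧ n c ≠ 0 ∧ m c = 0 ∧ m d ≠ 0 ∧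
      n d = 0 ∧ m e ≠ 0 ∧ n e = 0 ∧ ∀ χ, χ ≠ o → χ ≠ c → χ ≠ d → χ ≠ e → n χ = m χ := by
  set N := univ.filter fun χ => χ ≠ o ∧ n χ ≠ 0 with hNdef
  set Mm := univ.filter fun χ => m χ ≠ 0 with hMdef
  set T := N ∩ Mm with hT
  have hsumT : ∑ χ ∈ T, n χ * m χ = 2 := by
    rw [← hnm]
    refine Finset.sum_subset (subset_univ T) fun χ _ hχ => ?_
    by_contra h
    rw [mul_eq_zero, not_or] at h
    exact hχ (by
      simp only [hT, hNdef, hMdef, mem_inter, mem_filter, mem_univ, true_and]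
      exact ⟨⟨fun e => h.2 (e ▸ hm1), h.1⟩, h.2⟩)
  have hle : #T ≤ 3 := hN ▸ Finset.card_le_card inter_subset_left
  have hprod : ∀ χ ∈ T, n χ * m χ = 1 ∨ n χ * m χ = -1 := fun χ hχ => by
    simp only [hT, hNdef, hMdef, mem_inter, mem_filter, mem_univ, true_and] at hχ
    rcases hn χ with h | h | h <;> rcases hm χ with h' | h' | h' <;> simp_all
  have hcount : (#T : ℤ) - 2 * #(T.filter fun χ => n χ * m χ = -1) = 2 := by
    conv_rhs => rw [← hsumT]
    rw [Finset.card_eq_sum_ones, Finset.card_eq_sum_ones, Finset.sum_filter]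
    push_cast
    rw [Finset.mul_sum, ← Finset.sum_sub_distrib]
    refine Finset.sum_congr rfl fun χ hχ => ?_
    rcases hprod χ hχ with h | h <;> simp [h]
  have hT2 : #T = 2 := by omega
  have hneg : #(T.filter fun χ => n χ * m χ = -1) = 0 := by omega
  have heq : ∀ χ ∈ T, n χ = m χ := fun χ hχ => by
    have hpos : n χ * m χ ≠ -1 := fun h => by
      rw [Finset.card_eq_zero] at hneg
      exact absurd (mem_filter.2 ⟨hχ, h⟩) (hneg ▸ notMem_empty χ)
    have h1 := (hprod χ hχ).resolve_right hpos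
    rcases hn χ with h | h | h <;> rcases hm χ with h' | h' | h' <;> simp_all
  have hNT : #(N \ T) = 1 := by
    rw [Finset.card_sdiff_of_subset inter_subset_left, hN, hT2]
  have hMT : #(Mm \ T) = 2 := by
    rw [Finset.card_sdiff_of_subset inter_subset_right, hM, hT2]
  obtain ⟨c, hc⟩ := Finset.card_eq_one.1 hNT
  obtain ⟨d, e, hde, hdee⟩ := Finset.card_eq_two.1 hMT
  have hc' : c ∈ N \ T := hc ▸ mem_singleton_self c
  have hd' : d ∈ Mm \ T := hdee ▸ mem_insert_self d _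
  have he' : e ∈ Mm \ T := hdee ▸ mem_insert_of_mem (mem_singleton_self e)
  simp only [hT, hNdef, hMdef, mem_sdiff, mem_inter, mem_filter, mem_univ, true_and, not_and,
    not_not] at hc' hd' he'
  have hmc : m c = 0 := hc'.2 hc'.1
  have hod : d ≠ o := fun h => hd'.1 (h ▸ hm1)
  have hoe : e ≠ o := fun h => he'.1 (h ▸ hm1)
  have hnd : n d = 0 := by
    by_contra h
    exact hd'.1 (hd'.2 ⟨hod, h⟩)
  have hne : n e = 0 := by
    by_contra h
    exact he'.1 (he'.2 ⟨hoe, h⟩)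
  refine ⟨c, d, e, hc'.1.1, hod, hoe, fun h => hd'.1 (h ▸ hmc), fun h => he'.1 (h ▸ hmc), hde,
    hc'.1.2, hmc, hd'.1, hnd, he'.1, hne, fun χ ho hcχ hdχ heχ => ?_⟩
  by_cases hχT : χ ∈ T
  · exact heq χ hχT
  · have h1 : n χ = 0 := by
      by_contra h
      have : χ ∈ N \ T := mem_sdiff.2 ⟨by simp [hNdef, ho, h], hχT⟩
      rw [hc, mem_singleton] at this
      exact hcχ this
    have h2 : m χ = 0 := by
      by_contra h
      have : χ ∈ Mm \ T := mem_sdiff.2 ⟨by simp [hMdef, h], hχT⟩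
      rw [hdee, mem_insert, mem_singleton] at this
      exact this.elim hdχ heχ
    rw [h1, h2]

theorem sum_four {R : Type*} [AddCommMonoid R] {o c d e : ι} (F : ι → R) (hoc : c ≠ o)
    (hod : d ≠ o) (hoe : e ≠ o) (hcd : c ≠ d) (hce : c ≠ e) (hde : d ≠ e)
    (h : ∀ χ, χ ≠ o → χ ≠ c → χ ≠ d → χ ≠ e → F χ = 0) :
    ∑ χ, F χ = F o + (F c + (F d + F e)) := by
  rw [← Finset.sum_subset (subset_univ {o, c, d, e}) fun χ _ hχ => by
    simp only [mem_insert, mem_singleton, not_or] at hχ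
    exact h χ hχ.1 hχ.2.1 hχ.2.2.1 hχ.2.2.2]
  rw [sum_insert (by simp [hoc.symm, hod.symm, hoe.symm]), sum_insert (by simp [hcd, hce]),
    sum_pair hde]

/-- No coefficient pattern satisfies all the conditions. -/
theorem comb_false (o : ι) (d : ι → ℕ) (n m l : ι → ℤ) (hd : ∀ χ, 0 < d χ) (hdo : d o = 1)
    (hd1 : ∀ χ, d χ = 1 → χ = o) (hn1 : n o = 1) (hm1 : m o = 0) (hl1 : l o = 0)
    (hnn : ∑ χ, n χ * n χ = 4) (hmm : ∑ χ, m χ * m χ = 4) (hll : ∑ χ, l χ * l χ = 4)
    (hnm : ∑ χ, n χ * m χ = 2) (hnl : ∑ χ, n χ * l χ = 2) (hml : ∑ χ, m χ * l χ = 2)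
    (hdn : ∑ χ, n χ * d χ = 0) (hdm : ∑ χ, m χ * d χ = 0) (hdl : ∑ χ, l χ * d χ = 0)
    (heq : ∑ χ, ((n χ - m χ : ℤ) : ℚ) * ((n χ + m χ + l χ : ℤ) : ℚ) ^ 2 / (d χ : ℚ) = 0)
    (hsyl : ∀ χ, n χ ≠ 0 → ∃ k : ℕ, (d χ : ℤ) + 7 * (n χ + m χ + l χ) = 8 * k) : False := by
  obtain ⟨hn, hN⟩ := norm_four_one hn1 hnn
  obtain ⟨hm, hM⟩ := norm_four_zero hd hmm hdm
  obtain ⟨hl, hL⟩ := norm_four_zero hd hll hdl
  obtain ⟨c, p, q, hco, hpo, hqo, hcp, hcq, hpq, hnc, hmc, hmp, hnp, hmq, hnq, hrest⟩ :=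
    exists_shared hn1 hm1 hn hm hN hM hnm
  obtain ⟨c', p', q', hco', hpo', hqo', hcp', hcq', hpq', hnc', hlc', hlp', hnp', hlq', hnq',
    hrest'⟩ := exists_shared hn1 hl1 hn hl hN hL hnl
  -- the degree relation between the first two functions
  have hdeg : 1 + n c * (d c : ℤ) = m p * d p + m q * d q := by
    have h : ∑ χ, (n χ - m χ) * (d χ : ℤ) = 0 := by
      simp only [sub_mul, Finset.sum_sub_distrib, hdn, hdm, sub_self]
    rw [sum_four _ hco hpo hqo hcp hcq hpq fun χ a b c' e => by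
      rw [hrest χ a b c' e, sub_self, zero_mul], hn1, hm1, hmc, hnp, hnq, hdo] at h
    push_cast at h
    linarith
  rw [sum_four _ hco hpo hqo hcp hcq hpq fun χ a b c' e => by
    rw [hrest χ a b c' e, sub_self, Int.cast_zero, zero_mul, zero_div]] at heq
  rw [hn1, hm1, hl1, hmc, hnp, hnq, hdo] at heq
  have hnc2 : n c = 1 ∨ n c = -1 := by rcases hn c with h | h | h <;> omega
  have hmp2 : m p = 1 ∨ m p = -1 := by rcases hm p with h | h | h <;> omega
  have hmq2 : m q = 1 ∨ m q = -1 := by rcases hm q with h | h | h <;> omega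
  have hdc := hd c
  have hdp := hd p
  have hdq := hd q
  have hb0 : n c * (d c : ℤ) ≠ 0 := mul_ne_zero hnc (by omega)
  have hx0 : m p * (d p : ℤ) ≠ 0 := mul_ne_zero hmp (by omega)
  have hy0 : m q * (d q : ℤ) ≠ 0 := mul_ne_zero hmq (by omega)
  have hx1 : m p * (d p : ℤ) ≠ 1 := fun h => hpo (hd1 p (by rcases hmp2 with e | e <;> rw [e] at h <;> omega))
  have hy1 : m q * (d q : ℤ) ≠ 1 := fun h => hqo (hd1 q (by rcases hmq2 with e | e <;> rw [e] at h <;> omega))
  have hb1 : n c * (d c : ℤ) ≠ -1 := fun h => hco (hd1 c (by rcases hnc2 with e | e <;> rw [e] at h <;> omega))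
  have hinv : ∀ (s : ℤ) (t : ℕ), s = 1 ∨ s = -1 → (s : ℚ) / (t : ℚ) = 1 / ((s * t : ℤ) : ℚ) := by
    rintro s t (rfl | rfl) <;> push_cast <;> ring
  have hcube : ∀ (s : ℤ), s = 1 ∨ s = -1 → (s : ℚ) ^ 3 = s := by
    rintro s (rfl | rfl) <;> norm_num
  by_cases hcc : c = c'
  · subst hcc
    -- the same pair
    have hlp0 : l p = 0 ∧ l q = 0 := by
      have hnl' : ∀ χ, χ ≠ o → χ ≠ c → χ ≠ p → χ ≠ q → m χ * l χ = n χ * n χ := by
        intro χ a b e f
        by_cases hp : χ = p'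
        · subst hp
          rw [← hrest χ a b e f, hnp']; simp
        by_cases hq : χ = q'
        · subst hq
          rw [← hrest χ a b e f, hnq']; simp
        rw [← hrest χ a b e f, ← hrest' χ a b hp hq]
      have h : ∑ χ, (m χ * l χ - n χ * n χ) = -2 := by
        rw [Finset.sum_sub_distrib, hml, hnn]; norm_num
      rw [sum_four _ hco hpo hqo hcp hcq hpq fun χ a b e f => by rw [hnl' χ a b e f, sub_self],
        hn1, hm1, hmc, hnp, hnq] at h
      have hnc1 : n c * n c = 1 := by rcases hnc2 with e | e <;> rw [e] <;> norm_num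
      rw [hnc1] at h
      simp only [zero_mul, zero_sub, sub_zero, one_mul, mul_zero] at h
      have hsum : m p * l p + m q * l q = 0 := by linarith
      by_contra hne
      rw [not_and_or] at hne
      have hboth : l p ≠ 0 ∧ l q ≠ 0 := by
        constructor <;> intro h0 <;> rw [h0] at hsum <;> simp [hmp, hmq] at hsum <;>
          exact hne.elim (fun e => e (by first | exact h0 | exact hsum))
            (fun e => e (by first | exact h0 | exact hsum))
      have hsupp : ∀ χ, χ ≠ p → χ ≠ q → m χ - l χ = 0 := by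
        intro χ a b
        by_cases ho : χ = o
        · rw [ho, hm1, hl1, sub_self]
        by_cases hc0 : χ = c
        · rw [hc0, hmc, hlc', sub_self]
        have hpm : ∀ r, r ≠ o → r ≠ c → n r = 0 → l r ≠ 0 → r = p' ∨ r = q' := fun r r1 r2 r3 r4 => by
          by_contra hr
          rw [not_or] at hr
          exact r4 (by rw [← hrest' r r1 r2 hr.1 hr.2, r3])
        have hp1 := hpm p hpo (Ne.symm hcp) hnp hboth.1
        have hq1 := hpm q hqo (Ne.symm hcq) hnq hboth.2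
        have hχp : χ ≠ p' ∧ χ ≠ q' := by
          rcases hp1 with hp1 | hp1 <;> rcases hq1 with hq1 | hq1
          · exact absurd (hp1.trans hq1.symm) hpq
          · exact ⟨hp1 ▸ a, hq1 ▸ b⟩
          · exact ⟨hq1 ▸ b, hp1 ▸ a⟩
          · exact absurd (hp1.trans hq1.symm) hpq
        rw [← hrest χ ho hc0 a b, ← hrest' χ ho hc0 hχp.1 hχp.2, sub_self]
      have h2 : ∑ χ, (m χ - l χ) * (d χ : ℤ) = 0 := by
        simp only [sub_mul, Finset.sum_sub_distrib, hdm, hdl, sub_self]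
      rw [← Finset.sum_subset (subset_univ {p, q}) fun χ _ hχ => by
        simp only [mem_insert, mem_singleton, not_or] at hχ
        rw [hsupp χ hχ.1 hχ.2, zero_mul], sum_pair hpq] at h2
      rcases hmp2 with e1 | e1 <;> rcases hmq2 with e2 | e2 <;>
        rcases hl p with e3 | e3 | e3 <;> rcases hl q with e4 | e4 | e4 <;>
        rw [e1, e2, e3, e4] at h2 hsum <;> omega
    rw [hlc', hlp0.1, hlp0.2] at heq
    refine arith_same hb0 hx0 hy0 hb1 hx1 hy1 (by linarith) ?_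
    rw [← hinv _ _ hnc2, ← hinv _ _ hmp2, ← hinv _ _ hmq2]
    push_cast at heq
    linear_combination heq - (hcube _ hnc2) / (d c : ℚ) + (hcube _ hmp2) / (d p : ℚ) +
      (hcube _ hmq2) / (d q : ℚ)
  · -- two different pairs
    have hcp2 : c ≠ p' := fun h => hnc (h ▸ hnp')
    have hcq2 : c ≠ q' := fun h => hnc (h ▸ hnq')
    have hlc : l c = n c := (hrest' c hco hcc hcp2 hcq2).symm
    have hmc'' : m c' = n c' := (hrest c' hco' (Ne.symm hcc) (fun h => hnc' (h ▸ hnp))
      (fun h => hnc' (h ▸ hnq))).symm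
    have hsum : m p * l p + m q * l q = 1 := by
      have hnl' : ∀ χ, χ ≠ o → χ ≠ c → χ ≠ p → χ ≠ q → m χ * l χ - n χ * n χ =
          if χ = c' then -(n χ * n χ) else 0 := by
        intro χ a b e f
        rw [← hrest χ a b e f]
        split_ifs with hχc
        · subst hχc; rw [hlc']; ring
        · by_cases hp : χ = p'
          · subst hp; rw [hnp']; simp
          by_cases hq : χ = q'
          · subst hq; rw [hnq']; simp
          rw [← hrest' χ a hχc hp hq, sub_self]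
      have h : ∑ χ, (m χ * l χ - n χ * n χ - if χ = c' then -(n χ * n χ) else 0) =
          -2 + n c' * n c' := by
        rw [Finset.sum_sub_distrib, Finset.sum_sub_distrib, hml, hnn, Finset.sum_ite_eq']
        simp
      rw [sum_four _ hco hpo hqo hcp hcq hpq fun χ a b e f => by rw [hnl' χ a b e f, sub_self],
        if_neg (Ne.symm hco'), if_neg hcc, if_neg (fun h => hnc' (by rw [← h]; exact hnp)),
        if_neg (fun h => hnc' (by rw [← h]; exact hnq)), hn1, hm1, hmc, hnp, hnq] at h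
      have hnc1 : n c * n c = 1 := by rcases hnc2 with e | e <;> rw [e] <;> norm_num
      have hnc1' : n c' * n c' = 1 := by
        rcases hn c' with e | e | e
        · rw [e]; norm_num
        · exact absurd e hnc'
        · rw [e]; norm_num
      rw [hnc1, hnc1'] at h
      simp only [zero_mul, zero_sub, sub_zero, one_mul, mul_zero] at h
      linarith
    -- choose the shared one among the two
    have key : ∀ (r s : ι), r ≠ o → s ≠ o → m r * (d r : ℤ) + m s * d s = 1 + n c * d c →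
        (m r = 1 ∨ m r = -1) → (m s = 1 ∨ m s = -1) → l r = m r → l s = 0 →
        (1 : ℚ) + (4 * n c : ℤ) / (d c : ℚ) =
          ((4 * m r : ℤ) : ℚ) / (d r : ℚ) + ((m s : ℤ) : ℚ) / (d s : ℚ) → False := by
      intro r s hr hs hdeg' hr2 hs2 _ _ hq'
      obtain ⟨k, hk⟩ := hsyl c hnc
      rw [hmc, hlc] at hk
      have hr0 : m r * (d r : ℤ) ≠ 0 := by have := hd r; rcases hr2 with e | e <;> rw [e] <;> omega
      have hs0 : m s * (d s : ℤ) ≠ 0 := by have := hd s; rcases hs2 with e | e <;> rw [e] <;> omega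
      have hs1 : m s * (d s : ℤ) ≠ 1 := fun h => hs (hd1 s (by rcases hs2 with e | e <;> rw [e] at h <;> omega))
      refine arith_diff hb0 hr0 hs0 hs1 hdeg' ?_ ?_ ?_
      · rcases hnc2 with e | e <;> rw [e] at hk ⊢
        · exact ⟨(k : ℤ) - 2, by omega⟩
        · exact ⟨-(k : ℤ) - 2, by omega⟩
      · rcases hnc2 with e | e <;> rw [e] at hk ⊢ <;> omega
      · push_cast at hq'
        linear_combination hq' - 4 * hinv _ (d c) hnc2 + 4 * hinv _ (d r) hr2 + hinv _ (d s) hs2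
    rw [hlc] at heq
    have hopt : (l p = m p ∧ l q = 0) ∨ (l p = 0 ∧ l q = m q) := by
      rcases hmp2 with e1 | e1 <;> rcases hmq2 with e2 | e2 <;>
        rcases hl p with e3 | e3 | e3 <;> rcases hl q with e4 | e4 | e4 <;>
        rw [e1, e2, e3, e4] at hsum ⊢ <;> omega
    push_cast at heq
    rcases hopt with ⟨h1, h2⟩ | ⟨h1, h2⟩ <;> rw [h1, h2] at heq
    · refine key p q hpo hqo (by linarith) hmp2 hmq2 h1 h2 ?_
      push_cast at heq ⊢
      linear_combination heq - 4 * (hcube _ hnc2) / (d c : ℚ) + 4 * (hcube _ hmp2) / (d p : ℚ) +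
        (hcube _ hmq2) / (d q : ℚ)
    · refine key q p hqo hpo (by linarith) hmq2 hmp2 h2 h1 ?_
      push_cast at heq ⊢
      linear_combination heq - 4 * (hcube _ hnc2) / (d c : ℚ) + (hcube _ hmp2) / (d p : ℚ) +
        4 * (hcube _ hmq2) / (d q : ℚ)

end Cfsg.Agent.H85.ElemEight
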