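import Cfsg.Agent.H85.ElemEight.Setup
import Cfsg.Agent.H85.ElemEight.Blocks
import Cfsg.Agent.H85.ElemEight.Comb
import Cfsg.Agent.H39.StronglyEmbedded
import Cfsg.Agent.H83.ClassConst
import Cfsg.Agent.CharInduce.Ops
import Cfsg.Agent.CharBasic.Virtual

/-!
# The automizer of order twenty-one does not occur
-/

set_option autoImplicit false
set_option linter.unusedSectionVars false
set_option linter.style.haveILetI false
set_option maxHeartbeats 1000000

open scoped ComplexConjugate

namespace Cfsg.Agent.H85.ElemEight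

open Subgroup Cfsg CharInduce CharBasic BlockBasic

universe u

variable {G : Type u} [Group G] [Fintype G] {P : Sylow 2 G}

/-- Induction from a strongly embedded subgroup does not change values at even order elements. -/
theorem indFun_eq_of_even {H : Subgroup G} (hH : IsStronglyEmbedded H) {β : H → ℂ}
    (hβ : IsClassFunction H β) {x : H} (hx : Even (orderOf x)) : indFun H β (x : G) = β x := by
  classical
  haveI : Fintype H := Fintype.ofFinite _
  have hmem : ∀ g : G, g⁻¹ * (x : G) * g ∈ H → g ∈ H := by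
    intro g hg
    obtain ⟨r, hr⟩ := hx
    have hr0 : r ≠ 0 := by
      rintro rfl
      exact absurd hr (orderOf_pos x).ne'
    have ho : orderOf ((x : G) ^ r) = 2 := by
      rw [orderOf_pow_of_dvd hr0 (by rw [orderOf_coe, hr]; exact Dvd.intro 2 (by ring)),
        orderOf_coe, hr, ← two_mul, Nat.mul_div_cancel _ (Nat.pos_of_ne_zero hr0)]
    have hc : g⁻¹ * (x : G) ^ r * (g⁻¹)⁻¹ ∈ H := by
      rw [← conj_pow, inv_inv]
      exact pow_mem hg r
    simpa using inv_mem (H39.se_mem_of_conj hH ho (pow_mem x.2 r) hc)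
  have hterm : ∀ g : G, extendByZero H β (g⁻¹ * x * g) = if g ∈ H then β x else 0 := by
    intro g
    by_cases hg : g ∈ H
    · rw [if_pos hg, extendByZero_of_mem _ (mul_mem (mul_mem (inv_mem hg) x.2) hg)]
      have h := hβ x (⟨g, hg⟩⁻¹ : H)
      rw [← h]
      congr 1
      exact Subtype.ext (by simp)
    · rw [if_neg hg, extendByZero_of_not_mem _ fun h => hg (hmem g h)]
  rw [indFun_apply, Finset.sum_congr rfl fun g _ => hterm g,
    ← sum_subgroup_ite H (fun _ => β x), Finset.sum_const, Finset.card_univ, nsmul_eq_mul,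
    Nat.card_eq_fintype_card, ← mul_assoc, inv_mul_cancel₀ (Nat.cast_ne_zero.2 Fintype.card_ne_zero),
    one_mul]

theorem isClassFunction_res (H : Subgroup G) {F : G → ℂ} (hF : IsClassFunction G F) :
    IsClassFunction H (fun x : H => F x) := fun x y => by
  show F ((y * x * y⁻¹ : H) : G) = F x
  push_cast
  exact hF _ _

/-- All elements of a perfect group have value one in a character of degree one. -/
theorem eq_one_of_degree_one (hperf : commutator G = ⊤) {χ : IrrCharacter G}
    (h : (χ : G → ℂ) 1 = 1) : (χ : G → ℂ) = fun _ => 1 := by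
  obtain ⟨l, hl⟩ := IsChar.exists_hom_of_degree_one (IsIrr.isCharacter χ.2) h
  have hle : commutator G ≤ l.ker := by
    rw [commutator_def, commutator_le]
    intro a _ b _
    rw [MonoidHom.mem_ker, map_commutatorElement, commutatorElement_eq_one_iff_mul_comm]
    exact mul_comm _ _
  funext g
  have hg : l g = 1 := MonoidHom.mem_ker.1 (hle (hperf ▸ mem_top g))
  simp [hl g, hg]

theorem Hyp.index_ne_twentyone (h : Hyp P) [IsSimpleGroup G] (hna : ¬ IsMulCommutative G)
    (hperf : commutator G = ⊤) :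
    (centralizer ((P : Subgroup G) : Set G)).relIndex
      (normalizer ((P : Subgroup G) : Set G)) ≠ 21 := by
  classical
  intro h21
  haveI : Fact (Nat.Prime 2) := ⟨Nat.prime_two⟩
  obtain ⟨M, hM⟩ := BlockBasic.exists_isPModular Nat.prime_two
  obtain ⟨a, ha, ha1⟩ := h.exists_ne_one
  have hoa := h.orderOf_eq ha ha1
  have haa : a * a = 1 := by rw [← pow_two, h.sq a ha]
  obtain ⟨D, hDa, hWS, hS0, hH0⟩ := h.exists_setup h21 ha ha1
  have hSE := h.stronglyEmbedded hna
  haveI : Fintype D.S0 := Fintype.ofFinite _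
  haveI : Fintype D.H0 := Fintype.ofFinite _
  haveI : Fintype (bigW P) := Fintype.ofFinite _
  haveI : Fintype (bigM P) := Fintype.ofFinite _
  set A : ℕ → G → ℂ := fun i => indFun (bigM P) (D.alpha i) with hA
  have hAclass : ∀ i, IsClassFunction G (A i) := fun i => isClassFunction_indFun _ _
  have hconj : ∀ b ∈ (P : Subgroup G), b ≠ 1 → ∀ χ : IrrCharacter G,
      (χ : G → ℂ) b = (χ : G → ℂ) a := by
    intro b hb hb1 χ
    obtain ⟨n, -, hn⟩ := h.transitive (by rw [h21]; norm_num) ha ha1 hb hb1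
    rw [← hn, IsIrr.isClassFunction χ.2]
  have hcoef : ∀ i (F : G → ℂ), IsClassFunction G F →
      classInner (A i) F = classInner (D.alpha i) (fun x : bigM P => F x) := fun i F hF =>
    classInner_indFun_left _ _ _ hF
  -- the Gram matrix
  have hgram : ∀ i j, i < 3 → j < 3 → classInner (A i) (A j) = if i = j then 4 else 2 := by
    intro i j hi hj
    rw [hcoef i _ (hAclass j), ← D.inner_alpha_alpha hi hj, classInner_def, classInner_def]
    congr 1
    refine Finset.sum_congr rfl fun x _ => ?_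
    by_cases hx : D.alpha i x = 0
    · rw [hx, zero_mul, zero_mul]
    · rw [hA]
      simp only
      rw [indFun_eq_of_even hSE (D.alpha_isClass j) (D.even_of_ne hx)]
  have hone : ∀ i, i < 3 → classInner (A i) (fun _ => 1) = if i = 0 then 1 else 0 := fun i hi => by
    rw [hcoef i _ (fun _ _ => rfl), D.inner_alpha_one hi]
  have hAgen : ∀ i, IsGeneralizedCharacter G (A i) := fun i => IsGen.ind _ (D.alpha_isGen i)
  have hint : ∀ i, ∀ χ : IrrCharacter G, ∃ n : ℤ, classInner (A i) (χ : G → ℂ) = n :=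
    fun i => (isGeneralized_iff_int.1 (hAgen i)).2
  choose co hco using hint
  -- outside the principal block
  have hout : ∀ i, ∀ χ : IrrCharacter G, χ ∉ principalBlock M G → co i χ = 0 := by
    intro i χ hχ
    have hcast : (co i χ : ℂ) = 0 := by
      rw [← hco i χ, hcoef i _ (IsIrr.isClassFunction χ.2),
        D.inner_alpha i (isClassFunction_res _ (IsIrr.isClassFunction χ.2))]
      set f : D.H0 → ℂ := fun x =>
        (D.lam x : ℂ) ^ i * conj ((χ : G → ℂ) ((D.a * (x : bigM P) : bigM P) : G)) with hf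
      show _ * ∑ x : D.H0, f x = 0
      let wM : bigW P → D.H0 := fun w =>
        ⟨⟨w, bigW_le_bigM w.2⟩, D.S0_le (hWS _ w.2)⟩
      have hinner : ∀ x : D.H0, ∑ w : bigW P, f (x * wM w) = 0 := by
        intro x
        obtain ⟨b, hb, hb1, c, hc, hcM, hodd, w0, hw0, e⟩ := hH0 (x : bigM P) x.2
        have hfx : ∀ w : bigW P, f (x * wM w) =
            (D.lam x : ℂ) ^ i * conj ((χ : G → ℂ) (b * c * ((⟨w0, hw0⟩ : bigW P) * w : bigW P))) := by
          intro w
          have hl : D.lam (wM w : bigM P) = 1 :=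
            (D.lam_iff _ (wM w).2).2 (hWS _ w.2)
          have hv : ((D.a * ((x * wM w : D.H0) : bigM P) : bigM P) : G) =
              b * c * ((⟨w0, hw0⟩ : bigW P) * w : bigW P) := by
            show (D.a : G) * (((x : bigM P) : G) * (w : G)) = b * c * (w0 * (w : G))
            rw [hDa, ← mul_assoc, e, mul_assoc]
          simp only [hf]
          rw [hv, Subgroup.coe_mul, map_mul, hl, mul_one]
        rw [Finset.sum_congr rfl fun w _ => hfx w, ← Finset.mul_sum, ← map_sum]
        have h0 := h.sum_coset_eq_zero hM hb hb1 hc hcM hodd hχ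
        rw [show ∑ w : bigW P, (χ : G → ℂ) (b * c * ((⟨w0, hw0⟩ : bigW P) * w : bigW P)) =
          ∑ w : bigW P, (χ : G → ℂ) (b * c * w) from
            Fintype.sum_equiv (Equiv.mulLeft (⟨w0, hw0⟩ : bigW P)) _ _ fun w => rfl, h0, map_zero,
          mul_zero]
      have hshift : (Nat.card (bigW P) : ℂ) * ∑ x : D.H0, f x = 0 := by
        have h1 : ∀ w : bigW P, ∑ x : D.H0, f (x * wM w) = ∑ x : D.H0, f x := fun w =>
          Fintype.sum_equiv (Equiv.mulRight (wM w)) _ _ fun x => rfl
        calc (Nat.card (bigW P) : ℂ) * ∑ x : D.H0, f x = ∑ w : bigW P, ∑ x : D.H0, f (x * wM w) := by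
              rw [Finset.sum_congr rfl fun w _ => h1 w, Finset.sum_const, Finset.card_univ,
                nsmul_eq_mul, Nat.card_eq_fintype_card]
          _ = 0 := by rw [Finset.sum_comm, Finset.sum_eq_zero fun x _ => hinner x]
      rw [(mul_eq_zero.1 hshift).resolve_left (Nat.cast_ne_zero.2 Nat.card_pos.ne'), mul_zero]
    exact_mod_cast hcast
  -- inside the principal block
  have hval : ∀ χ : IrrCharacter G, χ ∈ principalBlock M G →
      (χ : G → ℂ) a = ((co 0 χ + co 1 χ + co 2 χ : ℤ) : ℂ) := by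
    intro χ hχ
    have hsum : ((co 0 χ + co 1 χ + co 2 χ : ℤ) : ℂ) = conj ((χ : G → ℂ) a) := by
      push_cast
      rw [← hco 0 χ, ← hco 1 χ, ← hco 2 χ, hcoef 0 _ (IsIrr.isClassFunction χ.2),
        hcoef 1 _ (IsIrr.isClassFunction χ.2), hcoef 2 _ (IsIrr.isClassFunction χ.2),
        D.inner_sum (isClassFunction_res _ (IsIrr.isClassFunction χ.2))]
      have hterm : ∀ s : D.S0,
          conj ((χ : G → ℂ) ((D.a * (s : bigM P) : bigM P) : G)) = conj ((χ : G → ℂ) a) := by
        intro s
        obtain ⟨b, hb, hb1, w, hw, e⟩ := hS0 (s : bigM P) s.2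
        rw [Subgroup.coe_mul, hDa, e, h.principal_apply hM hb hb1 hχ hw, hconj b hb hb1]
      rw [Finset.sum_congr rfl fun s _ => hterm s, Finset.sum_const, Finset.card_univ,
        nsmul_eq_mul, Nat.card_eq_fintype_card, ← mul_assoc,
        inv_mul_cancel₀ (Nat.cast_ne_zero.2 Fintype.card_ne_zero), one_mul]
    have := congrArg conj hsum
    rw [Complex.conj_conj, map_intCast] at this
    exact this.symm
  have hval' : ∀ χ : IrrCharacter G, (co 0 χ ≠ 0 ∨ co 1 χ ≠ 0 ∨ co 2 χ ≠ 0) →
      (χ : G → ℂ) a = ((co 0 χ + co 1 χ + co 2 χ : ℤ) : ℂ) := by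
    intro χ hne
    refine hval χ (by_contra fun hχ => ?_)
    simp [hout _ χ hχ] at hne
  -- the class function counting pairs of involutions
  set F : G → ℂ := ∑ χ : IrrCharacter G,
    (conj ((χ : G → ℂ) a) * conj ((χ : G → ℂ) a) / (χ : G → ℂ) 1) • (χ : G → ℂ) with hF
  have hFc : IsClassFunction G F := isClassFunction_sum_irr _
  have hsupp : ∀ x : bigM P, Even (orderOf x) → F (x : G) ≠ 0 → (D.lam x : ℂ) = 1 := by
    intro x hx hFx
    have hpairs := H83.card_pairs_mul_card a a (x : G)
    have hFval : F (x : G) = ∑ χ : IrrCharacter G,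
        conj ((χ : G → ℂ) a) * conj ((χ : G → ℂ) a) * (χ : G → ℂ) x / (χ : G → ℂ) 1 := by
      rw [hF, Finset.sum_apply]
      refine Finset.sum_congr rfl fun χ _ => ?_
      rw [Pi.smul_apply, smul_eq_mul]
      ring
    rw [← hFval] at hpairs
    have hne : Nat.card {u : G // IsConj a u ∧ IsConj a (u⁻¹ * (x : G))} ≠ 0 := by
      intro h0
      rw [h0, Nat.cast_zero, mul_zero, eq_comm, mul_eq_zero] at hpairs
      refine hFx (hpairs.resolve_left ?_)
      simp only [mul_eq_zero, Nat.cast_eq_zero, not_or]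
      exact ⟨index_ne_zero_of_finite, index_ne_zero_of_finite⟩
    obtain ⟨u, hu, hu'⟩ := (Nat.card_ne_zero.1 hne).1
    have sq : ∀ {w : G}, IsConj a w → w * w = 1 := fun {w} hw => by
      obtain ⟨g, rfl⟩ := isConj_iff.1 hw
      rw [← pow_two, conj_pow, pow_two, haa, mul_one, mul_inv_cancel]
    set v := u⁻¹ * (x : G) with hv
    have huu := sq hu
    have hvv := sq hu'
    have hxuv : (x : G) = u * v := by rw [hv, mul_inv_cancel_left]
    obtain ⟨r, hr⟩ := hx
    have hr0 : r ≠ 0 := by
      rintro rfl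
      exact absurd hr (orderOf_pos x).ne'
    have ho : orderOf ((x : G) ^ r) = 2 := by
      rw [orderOf_pow_of_dvd hr0 (by rw [orderOf_coe, hr]; exact Dvd.intro 2 (by ring)),
        orderOf_coe, hr, ← two_mul, Nat.mul_div_cancel _ (Nat.pos_of_ne_zero hr0)]
    have hui : u⁻¹ = u := inv_eq_of_mul_eq_one_right huu
    have hvi : v⁻¹ = v := inv_eq_of_mul_eq_one_right hvv
    have hinv : u * (x : G) * u⁻¹ = (x : G)⁻¹ := by
      rw [hxuv, mul_inv_rev, hvi, hui, ← mul_assoc u u, huu, one_mul]
    have hz : ((x : G) ^ r)⁻¹ = (x : G) ^ r := inv_eq_of_mul_eq_one_right (by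
      rw [← pow_two, ← ho, pow_orderOf_eq_one])
    have hu1 : u ∈ bigM P := by
      refine h.centralizer_le_bigM' (pow_mem x.2 r) ho (mem_centralizer_singleton_iff.2 ?_)
      have h1 : u * (x : G) ^ r * u⁻¹ = (x : G) ^ r := by
        rw [← conj_pow, hinv, inv_pow, hz]
      rwa [mul_inv_eq_iff_eq_mul] at h1
    have hv1 : v ∈ bigM P := mul_mem (inv_mem hu1) x.2
    have hlam : ∀ w : bigM P, w * w = 1 → D.lam w = 1 := fun w hw => by
      have h2 : D.lam w * D.lam w = 1 := by rw [← map_mul, hw, map_one]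
      have h3 := D.lam_cube w
      rwa [pow_succ, pow_two, h2, one_mul] at h3
    have hx' : x = ⟨u, hu1⟩ * ⟨v, hv1⟩ := Subtype.ext hxuv
    rw [hx', map_mul, hlam _ (Subtype.ext huu), hlam _ (Subtype.ext hvv)]
    simp
  have hFeq : ∀ i, classInner (A i) F = classInner (A 0) F := by
    intro i
    rw [hcoef i _ hFc, hcoef 0 _ hFc, classInner_def, classInner_def]
    congr 1
    refine Finset.sum_congr rfl fun x _ => ?_
    by_cases h0 : D.alpha 0 x = 0
    · rw [D.alpha_eq i x, h0, mul_zero]
    by_cases hFx : F (x : G) = 0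
    · rw [hFx, map_zero, mul_zero, mul_zero]
    rw [D.alpha_eq i x, hsupp x (D.even_of_ne h0) hFx, one_pow, one_mul]
  -- pass to integers
  set d : IrrCharacter G → ℕ := fun χ => charDegree (χ : G → ℂ) with hd
  set s : IrrCharacter G → ℤ := fun χ => co 0 χ + co 1 χ + co 2 χ with hs
  have hexpF : ∀ i, i < 2 → classInner (A i) F =
      ((∑ χ : IrrCharacter G, (co i χ : ℚ) * (s χ : ℚ) ^ 2 / (d χ : ℚ) : ℚ) : ℂ) := by
    intro i hi
    rw [classInner_eq_sum (hAclass i)]
    push_cast
    refine Finset.sum_congr rfl fun χ _ => ?_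
    rw [hco i χ]
    by_cases h0 : co i χ = 0
    · simp [h0]
    have hne : co 0 χ ≠ 0 ∨ co 1 χ ≠ 0 ∨ co 2 χ ≠ 0 := by
      interval_cases i
      · exact Or.inl h0
      · exact Or.inr (Or.inl h0)
    rw [classInner_sum_irr (fun χ : IrrCharacter G =>
      conj ((χ : G → ℂ) a) * conj ((χ : G → ℂ) a) / (χ : G → ℂ) 1) χ, map_div₀, map_mul,
      Complex.conj_conj, hval' χ hne, BlockBasic.apply_one_eq_charDegree, Complex.conj_natCast]
    simp only [hs, hd]
    push_cast
    ring
  have heq : ∑ χ : IrrCharacter G, ((co 0 χ - co 1 χ : ℤ) : ℚ) * (s χ : ℚ) ^ 2 / (d χ : ℚ) = 0 := by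
    have h01 := hFeq 1
    rw [hexpF 1 (by norm_num), hexpF 0 (by norm_num), Rat.cast_inj] at h01
    simp only [Int.cast_sub, sub_mul, sub_div, Finset.sum_sub_distrib, h01, sub_self]
  have hgramZ : ∀ i j, i < 3 → j < 3 →
      ∑ χ : IrrCharacter G, co i χ * co j χ = if i = j then 4 else 2 := by
    intro i j hi hj
    have h1 := hgram i j hi hj
    rw [classInner_eq_sum (hAclass i)] at h1
    simp only [hco, map_intCast] at h1
    exact_mod_cast h1
  set o : IrrCharacter G := BlockBasic.trivialIrr with ho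
  have hco1 : ∀ i, i < 3 → co i o = if i = 0 then 1 else 0 := by
    intro i hi
    have h1 := hone i hi
    rw [show (fun _ : G => (1 : ℂ)) = (o : G → ℂ) from rfl, hco] at h1
    exact_mod_cast h1
  have hdeg : ∀ i, ∑ χ : IrrCharacter G, co i χ * (d χ : ℤ) = 0 := by
    intro i
    have hα : D.alpha i 1 = 0 := by
      by_contra hne
      have := D.even_of_ne hne
      rw [orderOf_one] at this
      exact absurd this (by decide)
    have h1 : A i 1 = 0 := by
      rw [hA]
      simp only
      rw [indFun_one, hα, mul_zero]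
    have h2 := congrFun (classFunction_expansion (hAclass i)) 1
    rw [h1, Finset.sum_apply] at h2
    simp only [Pi.smul_apply, smul_eq_mul, hco, BlockBasic.apply_one_eq_charDegree] at h2
    exact_mod_cast h2.symm
  refine comb_false o d (co 0) (co 1) (co 2) (fun χ => BlockBasic.charDegree_pos χ) ?_ ?_
    (hco1 0 (by norm_num)) (hco1 1 (by norm_num)) (hco1 2 (by norm_num))
    (hgramZ 0 0 (by norm_num) (by norm_num)) (hgramZ 1 1 (by norm_num) (by norm_num))
    (hgramZ 2 2 (by norm_num) (by norm_num)) (hgramZ 0 1 (by norm_num) (by norm_num))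
    (hgramZ 0 2 (by norm_num) (by norm_num)) (hgramZ 1 2 (by norm_num) (by norm_num))
    (hdeg 0) (hdeg 1) (hdeg 2) heq ?_
  · show charDegree (fun _ : G => (1 : ℂ)) = 1
    simp [charDegree]
  · intro χ hχ
    refine Subtype.ext (eq_one_of_degree_one hperf ?_)
    rw [BlockBasic.apply_one_eq_charDegree]
    have hχ' : charDegree (χ : G → ℂ) = 1 := hχ
    rw [hχ', Nat.cast_one]
  · intro χ hne
    have hs' := hval' χ (Or.inl hne)
    obtain ⟨k, hk⟩ := H83.sum_subgroup_eq (IsIrr.isCharacter χ.2) (P : Subgroup G)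
    rw [← Finset.add_sum_erase _ _ (Finset.mem_univ (1 : (P : Subgroup G))), OneMemClass.coe_one,
      BlockBasic.apply_one_eq_charDegree,
      Finset.sum_congr rfl (g := fun _ => ((s χ : ℤ) : ℂ)) (fun y hy => by
        rw [hconj y y.2 (fun e => Finset.ne_of_mem_erase hy (Subtype.ext e)), hs']),
      Finset.sum_const, Finset.card_erase_of_mem (Finset.mem_univ _), Finset.card_univ,
      ← Nat.card_eq_fintype_card, h.card, nsmul_eq_mul] at hk
    exact ⟨k, by exact_mod_cast hk⟩

end Cfsg.Agent.H85.ElemEight
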