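import Cfsg.Agent.H85.ElemEight.Index
import Cfsg.Agent.Cores.Constrained
import Cfsg.Agent.H40.BalanceConstrained

/-!
# Solvable centralisers of involutions in the elementary abelian Sylow subgroup
-/

set_option autoImplicit false
set_option linter.unusedSectionVars false
set_option linter.style.haveILetI false

namespace Cfsg.Agent.H85.ElemEight

open Subgroup Cfsg

universe u

variable {G : Type u} [Group G] [Finite G] {P : Sylow 2 G}

/-- The core of the centraliser of an element. -/
noncomputable abbrev coreAt (a : G) : Subgroup G := centralizerPPrimeCore 2 a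

theorem coreAt_le (a : G) : coreAt a ≤ centralizer ({a} : Set G) := map_subtype_le _

theorem odd_card_coreAt (a : G) : Odd (Nat.card (coreAt a)) := by
  rw [coreAt, centralizerPPrimeCore, card_map_of_injective (subtype_injective _)]
  exact Cores.odd_card_oddCore

theorem conj_mem_coreAt {a c x : G} (hc : c ∈ centralizer ({a} : Set G)) (hx : x ∈ coreAt a) :
    c * x * c⁻¹ ∈ coreAt a := by
  obtain ⟨k, hk, rfl⟩ := hx
  exact ⟨⟨c, hc⟩ * k * ⟨c, hc⟩⁻¹, Normal.conj_mem inferInstance k hk _, rfl⟩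

theorem conj_coreAt (g : G) {a x : G} (hx : x ∈ coreAt a) :
    g * x * g⁻¹ ∈ coreAt (g * a * g⁻¹) := by
  set e : ↥(centralizer ({a} : Set G)) ≃* ↥(centralizer ({g * a * g⁻¹} : Set G)) :=
    ((MulAut.conj g).subgroupMap _).trans (MulEquiv.subgroupCongr (by
      ext y
      simp only [mem_map, mem_centralizer_singleton_iff, MonoidHom.coe_coe, MulAut.conj_apply]
      refine ⟨?_, fun hy => ⟨g⁻¹ * y * g, ?_, by group⟩⟩
      · rintro ⟨z, hz, rfl⟩
        calc g * z * g⁻¹ * (g * a * g⁻¹) = g * (z * a) * g⁻¹ := by group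
          _ = g * (a * z) * g⁻¹ := by rw [hz]
          _ = _ := by group
      · calc g⁻¹ * y * g * a = g⁻¹ * (y * (g * a * g⁻¹)) * g := by group
          _ = g⁻¹ * ((g * a * g⁻¹) * y) * g := by rw [hy]
          _ = _ := by group)) with he
  obtain ⟨k, hk, rfl⟩ := hx
  refine ⟨e k, ?_, rfl⟩
  rw [← Cores.pPrimeCore_map_mulEquiv e]
  exact ⟨k, hk, rfl⟩

theorem Hyp.le_centralizer_singleton (h : Hyp P) {a : G} (ha : a ∈ (P : Subgroup G)) :
    (P : Subgroup G) ≤ centralizer ({a} : Set G) :=
  fun x hx => mem_centralizer_singleton_iff.2 (h.comm x hx a ha)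

theorem Hyp.constrained (h : Hyp P) {a : G} (ha : a ∈ (P : Subgroup G)) (ha1 : a ≠ 1) :
    IsPConstrained 2 ↥(centralizer ({a} : Set G)) :=
  haveI : Fact (Nat.Prime 2) := ⟨Nat.prime_two⟩
  haveI := h.solv a (h.orderOf_eq ha ha1)
  Cores.isPConstrained_of_isPSolvable Cores.isPSolvable_of_isSolvable

theorem Hyp.balance (h : Hyp P) {a b : G} (ha : a ∈ (P : Subgroup G)) (hb : b ∈ (P : Subgroup G))
    (hb1 : b ≠ 1) : coreAt a ⊓ centralizer ({b} : Set G) ≤ coreAt b :=
  haveI : Fact (Nat.Prime 2) := ⟨Nat.prime_two⟩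
  H40.balance_of_constrained ⟨1, by rw [pow_one]; exact h.sq a ha⟩ (h.comm a ha b hb)
    (h.constrained hb hb1)

/-- `C(a) = O(C(a)) N_{C(a)}(S)` and `C(S) ≤ O(C(a)) S`. -/
theorem Hyp.centralizer_facts (h : Hyp P) {a : G} (ha : a ∈ (P : Subgroup G)) (ha1 : a ≠ 1) :
    centralizer ({a} : Set G) ≤ coreAt a ⊔ normalizer ((P : Subgroup G) : Set G) ∧
    centralizer ((P : Subgroup G) : Set G) ≤ coreAt a ⊔ (P : Subgroup G) := by
  classical
  haveI : Fact (Nat.Prime 2) := ⟨Nat.prime_two⟩
  set C := centralizer ({a} : Set G) with hCdef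
  set K := pPrimeCore 2 ↥C with hK
  set SC : Sylow 2 ↥C := P.subtype (h.le_centralizer_singleton ha) with hSC
  set q := QuotientGroup.mk' K with hq
  have hcon := Cores.isPConstrained_iff.1 (h.constrained ha ha1)
  set Sb : Sylow 2 (↥C ⧸ K) := SC.mapSurjective (QuotientGroup.mk'_surjective K) with hSb
  have hSbc : (Sb : Subgroup (↥C ⧸ K)) = (SC : Subgroup ↥C).map q := rfl
  have hOle : pCore 2 (↥C ⧸ K) ≤ (Sb : Subgroup (↥C ⧸ K)) := Cores.pCore_le_sylow Sb
  have habel : ∀ x ∈ (Sb : Subgroup (↥C ⧸ K)), ∀ y ∈ (Sb : Subgroup (↥C ⧸ K)),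
      x * y = y * x := by
    rw [hSbc]
    rintro _ ⟨x, hx, rfl⟩ _ ⟨y, hy, rfl⟩
    rw [← map_mul, ← map_mul]
    exact congrArg q (Subtype.ext (h.comm _ hx _ hy))
  have heq : pCore 2 (↥C ⧸ K) = (Sb : Subgroup (↥C ⧸ K)) :=
    le_antisymm hOle (le_trans (fun x hx => mem_centralizer_iff.2 fun y hy =>
      habel y (hOle hy) x hx) hcon)
  rw [heq] at hcon
  haveI hN' : (K ⊔ (SC : Subgroup ↥C)).Normal := by
    have : K ⊔ (SC : Subgroup ↥C) = (Sb : Subgroup (↥C ⧸ K)).comap q := by
      rw [hSbc, comap_map_eq, QuotientGroup.ker_mk', sup_comm]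
    rw [this, ← heq]
    infer_instance
  refine ⟨?_, ?_⟩
  · have hfr : normalizer ((SC : Subgroup ↥C) : Set ↥C) ⊔ (K ⊔ (SC : Subgroup ↥C)) = ⊤ :=
      Sylow.normalizer_sup_eq_top' SC le_sup_right
    intro c hc
    have hc' : (⟨c, hc⟩ : ↥C) ∈ normalizer ((SC : Subgroup ↥C) : Set ↥C) ⊔ K := by
      have hle : (SC : Subgroup ↥C) ≤ normalizer ((SC : Subgroup ↥C) : Set ↥C) := le_normalizer
      rw [show normalizer ((SC : Subgroup ↥C) : Set ↥C) ⊔ K =
        normalizer ((SC : Subgroup ↥C) : Set ↥C) ⊔ (K ⊔ (SC : Subgroup ↥C)) from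
          le_antisymm (sup_le_sup_left le_sup_left _)
            (sup_le le_sup_left (sup_le le_sup_right (hle.trans le_sup_left))), hfr]
      exact mem_top _
    obtain ⟨n, hn, k, hk, hnk⟩ := mem_sup_of_normal_right.1 hc'
    have hnG : (n : G) ∈ normalizer ((P : Subgroup G) : Set G) := by
      rw [mem_normalizer_iff_map_conj_eq]
      refine eq_of_le_of_card_ge ?_ (le_of_eq (card_map_of_injective (MulAut.conj (n : G)).injective).symm)
      rintro _ ⟨v, hv, rfl⟩
      exact (mem_normalizer_iff.1 hn ⟨v, h.le_centralizer_singleton ha hv⟩).1 hv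
    rw [show c = (n : G) * (k : G) from congrArg Subtype.val hnk.symm]
    exact mul_mem (mem_sup_right hnG) (mem_sup_left ⟨k, hk, rfl⟩)
  · intro c hc
    have hcC : c ∈ C := mem_centralizer_singleton_iff.2 (mem_centralizer_iff.1 hc a ha).symm
    have hcq : q ⟨c, hcC⟩ ∈ (Sb : Subgroup (↥C ⧸ K)) := by
      refine hcon (mem_centralizer_iff.2 ?_)
      rw [hSbc]
      rintro _ ⟨v, hv, rfl⟩
      rw [← map_mul, ← map_mul]
      exact congrArg q (Subtype.ext (mem_centralizer_iff.1 hc v hv))
    rw [hSbc] at hcq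
    obtain ⟨v, hv, hvc⟩ := hcq
    have hk : v⁻¹ * ⟨c, hcC⟩ ∈ K := (QuotientGroup.eq).1 hvc
    have : c = (v : G) * ((v⁻¹ * ⟨c, hcC⟩ : ↥C) : G) := by
      push_cast
      group
    rw [this]
    exact mul_mem (mem_sup_right hv) (mem_sup_left ⟨_, hk, rfl⟩)

/-- An element of order seven in the automizer permutes the involutions transitively. -/
theorem Hyp.transitive (h : Hyp P)
    (h7 : 7 ∣ (centralizer ((P : Subgroup G) : Set G)).relIndex
      (normalizer ((P : Subgroup G) : Set G)))
    {a b : G} (ha : a ∈ (P : Subgroup G)) (ha1 : a ≠ 1) (hb : b ∈ (P : Subgroup G))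
    (hb1 : b ≠ 1) : ∃ n ∈ normalizer ((P : Subgroup G) : Set G), n * a * n⁻¹ = b := by
  classical
  haveI : Fact (Nat.Prime 2) := ⟨Nat.prime_two⟩
  haveI : Fact (Nat.Prime 7) := ⟨by norm_num⟩
  obtain ⟨g, hg⟩ := exists_prime_orderOf_dvd_card' (G := (act P).range) 7
    (by rwa [card_range_act])
  set A : Subgroup (MulAut (P : Subgroup G)) := zpowers (g : MulAut (P : Subgroup G)) with hA
  have hA7 : Nat.card A = 7 := by rw [hA, Nat.card_zpowers, orderOf_coe, hg]
  have hAr : A ≤ (act P).range := zpowers_le.2 g.2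
  have horb : ∀ v : (P : Subgroup G), v ≠ 1 → Nat.card (MulAction.orbit A v) = 7 := by
    intro v hv
    have hdvd : Nat.card (MulAction.orbit A v) ∣ 7 := by
      rw [← hA7, Nat.card_coe_set_eq, ← MulAction.index_stabilizer]
      exact index_dvd_card _
    rcases (Nat.dvd_prime (Fact.out : Nat.Prime 7)).1 hdvd with h1 | h1
    · exfalso
      have hfix : v ∈ MulAction.fixedPoints A (P : Subgroup G) :=
        MulAction.mem_fixedPoints.2 fun m => by
          haveI := (Nat.card_eq_one_iff_unique.1 h1).1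
          exact congrArg Subtype.val (Subsingleton.elim
            (⟨m • v, MulAction.mem_orbit v m⟩ : MulAction.orbit A v)
            ⟨v, MulAction.mem_orbit_self v⟩)
      have hm := card_fixed_modEq P A hA7
      rw [h.card] at hm
      have hcard : Nat.card (MulAction.fixedPoints A (P : Subgroup G)) = 8 := by
        have hle : Nat.card (MulAction.fixedPoints A (P : Subgroup G)) ≤ 8 :=
          h.card ▸ Finite.card_subtype_le _
        have h2 : 1 < Nat.card (MulAction.fixedPoints A (P : Subgroup G)) := by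
          haveI : Nontrivial (MulAction.fixedPoints A (P : Subgroup G)) :=
            ⟨⟨v, hfix⟩, ⟨1, fun m => map_one (m : MulAut (P : Subgroup G))⟩,
              fun e => hv (congrArg Subtype.val e)⟩
          exact Finite.one_lt_card
        unfold Nat.ModEq at hm
        omega
      have hone : (g : MulAut (P : Subgroup G)) = 1 := by
        refine MulEquiv.ext fun w => ?_
        have hw : w ∈ MulAction.fixedPoints A (P : Subgroup G) := by
          have hbij := (Nat.bijective_iff_injective_and_card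
            (Subtype.val : MulAction.fixedPoints A (P : Subgroup G) → (P : Subgroup G))).2
            ⟨Subtype.val_injective, by rw [hcard, h.card]⟩
          obtain ⟨w', rfl⟩ := hbij.2 w
          exact w'.2
        exact hw ⟨g, mem_zpowers _⟩
      have hg1 : g = 1 := Subtype.ext hone
      rw [hg1, orderOf_one] at hg
      omega
    · exact h1
  set va : (P : Subgroup G) := ⟨a, ha⟩
  set vb : (P : Subgroup G) := ⟨b, hb⟩
  have hva : va ≠ 1 := fun e => ha1 (congrArg Subtype.val e)
  have hmem : vb ∈ MulAction.orbit A va := by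
    have hset : MulAction.orbit A va = {(1 : (P : Subgroup G))}ᶜ := by
      refine Set.eq_of_subset_of_ncard_le ?_ ?_ (Set.toFinite _)
      · rintro w ⟨m, rfl⟩ hw1
        exact hva ((m : MulAut (P : Subgroup G)).injective
          ((Set.mem_singleton_iff.1 hw1).trans (map_one (m : MulAut (P : Subgroup G))).symm))
      · rw [← Nat.card_coe_set_eq, ← Nat.card_coe_set_eq, horb va hva, Nat.card_coe_set_eq,
          Set.ncard_compl, Set.ncard_singleton, h.card]
    rw [hset]
    exact fun e => hb1 (congrArg Subtype.val (Set.mem_singleton_iff.1 e))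
  obtain ⟨m, hm⟩ := hmem
  obtain ⟨n, hn⟩ := hAr m.2
  refine ⟨n, n.2, ?_⟩
  have := congrArg (fun w : (P : Subgroup G) => (w : G)) hm
  simp only at this
  rw [show m • va = (act P n) va by rw [hn]; rfl, act_apply] at this
  exact this

end Cfsg.Agent.H85.ElemEight
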