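import Cfsg.Agent.H85.ElemEight.Quot
import Cfsg.Agent.CharInduce.Induce
import Cfsg.Agent.H82.PrincipalBlock

/-!
# Three coherent generalised characters induced from a subgroup of index seven
-/

set_option autoImplicit false
set_option linter.unusedSectionVars false
set_option linter.style.haveILetI false

open scoped ComplexConjugate

namespace Cfsg.Agent.H85.ElemEight

open Subgroup Cfsg Finset CharInduce CharBasic

universe u

/-- Fibres of a surjective homomorphism. -/
theorem card_preimage {M Q : Type*} [Group M] [Group Q] [Finite M] (f : M →* Q)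
    (hf : Function.Surjective f) (p : Q → Prop) :
    Nat.card {g : M // p (f g)} = Nat.card f.ker * Nat.card {q : Q // p q} := by
  rw [← Nat.card_prod]
  symm
  choose s hs using hf
  have hval : ∀ (k : f.ker) (q : Q), f ((k : M) * s q) = q := fun k q => by
    rw [map_mul, MonoidHom.mem_ker.1 k.2, one_mul, hs]
  refine Nat.card_eq_of_bijective
    (fun z : f.ker × {q : Q // p q} => ⟨(z.1 : M) * s z.2.1, by rw [hval]; exact z.2.2⟩) ⟨?_, ?_⟩
  · rintro ⟨k, q⟩ ⟨k', q'⟩ e
    have e' : (k : M) * s q.1 = (k' : M) * s q'.1 := congrArg Subtype.val e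
    have hq : q = q' := Subtype.ext (by rw [← hval k q.1, ← hval k' q'.1, e'])
    subst hq
    rw [Prod.mk.injEq]
    exact ⟨Subtype.ext (mul_right_cancel e'), rfl⟩
  · rintro ⟨g, hg⟩
    refine ⟨(⟨g * (s (f g))⁻¹, ?_⟩, ⟨f g, hg⟩), Subtype.ext (inv_mul_cancel_right g _)⟩
    rw [MonoidHom.mem_ker, map_mul, map_inv, hs, mul_inv_cancel]

/-- The data on the strongly embedded subgroup. -/
structure Datum (M : Type u) [Group M] where
  a : M
  H : Subgroup M
  H0 : Subgroup M
  S0 : Subgroup M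
  lam : M →* ℂˣ
  a_sq : a * a = 1
  a_mem : a ∈ H
  not_mem : a ∉ H0
  H0_le : H0 ≤ H
  S0_le : S0 ≤ H0
  card_H : Nat.card H = 2 * Nat.card H0
  card_H0 : Nat.card H0 = 3 * Nat.card S0
  two : ∀ x ∈ H, (x ∈ H0 ↔ a * x ∉ H0)
  lam_a : lam a = 1
  lam_cube : ∀ x, lam x ^ 3 = 1
  lam_iff : ∀ x ∈ H0, (lam x = 1 ↔ x ∈ S0)
  lam_ne : ∃ x ∈ H0, lam x ≠ 1
  commute : ∀ x ∈ H0, a * x * a⁻¹ ∈ H0
  count : ∀ x ∈ H0,
    (x ∈ S0 → Nat.card {g : M // a * (g⁻¹ * (a * x) * g) ∈ H0} = 8 * Nat.card H0) ∧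
    (x ∉ S0 → Nat.card {g : M // a * (g⁻¹ * (a * x) * g) ∈ H0} = 2 * Nat.card H0)

/-- Lift of the data along a surjection. -/
noncomputable def Datum.ofLine {M Q : Type*} [Group M] [Group Q] [Finite M] (f : M →* Q)
    (hf : Function.Surjective f) {a : M} (ha : a * a = 1) (L : Line Q (f a)) (haV : f a ∈ L.V) :
    Datum M where
  a := a
  H := (centralizer ({f a} : Set Q)).comap f
  H0 := L.H0.comap f
  S0 := L.S0.comap f
  lam := L.lam.comp f
  a_sq := ha
  a_mem := mem_comap.2 (mem_centralizer_singleton_iff.2 rfl)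
  not_mem := L.not_mem
  H0_le := comap_mono L.le_cent
  S0_le := comap_mono L.S0_le
  card_H := by
    change Nat.card {g : M // f g ∈ centralizer ({f a} : Set Q)} =
      2 * Nat.card {g : M // f g ∈ L.H0}
    rw [card_preimage f hf, card_preimage f hf]
    change _ * Nat.card (centralizer ({f a} : Set Q)) = 2 * (_ * Nat.card L.H0)
    rw [L.card_cent, L.card_H0]
    ring
  card_H0 := by
    change Nat.card {g : M // f g ∈ L.H0} = 3 * Nat.card {g : M // f g ∈ L.S0}
    rw [card_preimage f hf, card_preimage f hf]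
    change _ * Nat.card L.H0 = 3 * (_ * Nat.card L.S0)
    rw [L.card_S0, L.card_H0]
    ring
  two := fun x hx => by
    show f x ∈ L.H0 ↔ f (a * x) ∉ L.H0
    rw [map_mul]
    exact L.two _ hx
  lam_a := L.lam_V _ haV
  lam_cube := fun x => L.lam_cube (f x)
  lam_iff := fun x hx => L.lam_iff (f x) hx
  lam_ne := by
    obtain ⟨q, hq, hne⟩ := L.lam_ne
    obtain ⟨x, rfl⟩ := hf q
    exact ⟨x, hq, hne⟩
  commute := fun x hx => by
    show f (a * x * a⁻¹) ∈ L.H0
    rw [map_mul, map_mul, map_inv, (mem_centralizer_singleton_iff.1 (L.le_cent hx)).symm,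
      mul_inv_cancel_right]
    exact hx
  count := fun x hx => by
    have key : Nat.card {g : M // a * (g⁻¹ * (a * x) * g) ∈ L.H0.comap f} =
        Nat.card f.ker * Nat.card {q : Q // f a * (q⁻¹ * (f a * f x) * q) ∈ L.H0} := by
      rw [← card_preimage f hf]
      exact Nat.card_congr (Equiv.subtypeEquivRight fun g => by
        simp only [mem_comap, map_mul, map_inv])
    have hcard : Nat.card (L.H0.comap f) = Nat.card f.ker * 12 := by
      change Nat.card {g : M // f g ∈ L.H0} = _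
      rw [card_preimage f hf]
      change _ * Nat.card L.H0 = _
      rw [L.card_H0]
    refine ⟨fun hS => ?_, fun hS => ?_⟩
    · rw [key, (L.count _ hx).1 hS, hcard]; ring
    · rw [key, (L.count _ hx).2 hS, hcard]; ring

theorem sum_subgroup_ite {M : Type*} [Group M] [Fintype M] (K : Subgroup M) [Fintype K]
    [DecidablePred (· ∈ K)] (F : M → ℂ) :
    ∑ k : K, F k = ∑ x : M, if x ∈ K then F x else 0 := by
  rw [← Finset.sum_filter]
  exact (Finset.sum_subtype _ (fun x => by simp) F).symm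

namespace Datum

variable {M : Type u} [Group M] [Fintype M] (D : Datum M)

/-- The functions on `H`. -/
noncomputable def phi (i : ℕ) : D.H → ℂ :=
  open scoped Classical in
  fun x => if D.a * (x : M) ∈ D.H0 then 2 * (D.lam x : ℂ) ^ i else 0

/-- The induced functions. -/
noncomputable def alpha (i : ℕ) : M → ℂ := indFun D.H (D.phi i)

theorem lam_class : IsClassFunction M (fun x => (D.lam x : ℂ)) := fun g h => by
  simp only [map_mul, map_inv]
  rw [mul_right_comm, mul_inv_cancel, one_mul]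

theorem conj_lam (x : M) : conj (D.lam x : ℂ) = (D.lam x : ℂ) ^ 2 := by
  have h3 : (D.lam x : ℂ) ^ 3 = 1 := by rw [← Units.val_pow_eq_pow_val, D.lam_cube, Units.val_one]
  have hn : ‖(D.lam x : ℂ)‖ = 1 := Complex.norm_eq_one_of_pow_eq_one h3 (by norm_num)
  rw [← Complex.inv_eq_conj hn, inv_eq_of_mul_eq_one_right]
  rw [← pow_succ']
  exact h3

theorem phi_isGen (i : ℕ) : IsGeneralizedCharacter D.H (D.phi i) := by
  classical
  have htwo := D.two
  let μ : D.H →* ℂ :=
    { toFun := fun x => if (x : M) ∈ D.H0 then 1 else -1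
      map_one' := by simp
      map_mul' := fun x y => by
        have hn : ∀ z : D.H, (z : M) ∉ D.H0 → D.a * (z : M) ∈ D.H0 := fun z hz => by
          by_contra h
          exact hz ((htwo z z.2).2 h)
        by_cases hx : (x : M) ∈ D.H0
        · by_cases hy : (y : M) ∈ D.H0
          · simp [hx, hy, mul_mem hx hy]
          · simp [hx, hy, mul_mem_cancel_left hx]
        · by_cases hy : (y : M) ∈ D.H0
          · simp [hx, hy, mul_mem_cancel_right hy]
          · have hxy : (x : M) * (y : M) ∈ D.H0 := by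
              have h1 := mul_mem (D.commute _ (hn x hx)) (hn y hy)
              have e : D.a * (D.a * (x : M)) * D.a⁻¹ * (D.a * (y : M)) = (x : M) * y := by
                rw [← mul_assoc D.a D.a, D.a_sq, one_mul, mul_assoc, inv_mul_cancel_left]
              rwa [e] at h1
            simp [hx, hy, hxy] }
  let l : D.H →* ℂ := ((Units.coeHom ℂ).comp (D.lam.comp D.H.subtype)) ^ i
  refine ⟨fun x => l x, fun x => (l * μ) x,
    IsIrr.isCharacter (H82.isIrrCharacter_hom l), IsIrr.isCharacter (H82.isIrrCharacter_hom _), ?_⟩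
  funext x
  simp only [phi, Pi.sub_apply, MonoidHom.mul_apply, MonoidHom.pow_apply, l, μ,
    MonoidHom.coe_comp, Function.comp_apply, Units.coeHom_apply, Subgroup.coe_subtype,
    MonoidHom.coe_mk, OneHom.coe_mk]
  by_cases hx : (x : M) ∈ D.H0
  · rw [if_neg ((htwo x x.2).1 hx), if_pos hx, mul_one, sub_self]
  · rw [if_pos (by by_contra h; exact hx ((htwo x x.2).2 h)), if_neg hx]
    ring

theorem alpha_isGen (i : ℕ) : IsGeneralizedCharacter M (D.alpha i) := IsGen.ind _ (D.phi_isGen i)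

theorem alpha_isClass (i : ℕ) : IsClassFunction M (D.alpha i) := isClassFunction_indFun _ _

theorem alpha_eq (i : ℕ) (x : M) : D.alpha i x = (D.lam x : ℂ) ^ i * D.alpha 0 x := by
  classical
  have h : D.phi i = fun h : D.H => D.phi 0 h * ((D.lam (h : M) : ℂ) ^ i) := by
    funext h
    simp only [phi]
    split_ifs <;> simp
  rw [alpha, h, indFun_mul_res D.H (D.phi 0) (fun m => (D.lam m : ℂ) ^ i) fun g k => by
    show (D.lam (k * g * k⁻¹) : ℂ) ^ i = _
    rw [show (D.lam (k * g * k⁻¹) : ℂ) = D.lam g from D.lam_class g k], Pi.mul_apply, mul_comm]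
  rfl

theorem exists_conj_of_ne {i : ℕ} {x : M} (h : D.alpha i x ≠ 0) :
    ∃ g : M, D.a * (g⁻¹ * x * g) ∈ D.H0 := by
  classical
  by_contra hno
  push Not at hno
  refine h ?_
  rw [alpha, indFun_apply, Finset.sum_eq_zero, mul_zero]
  intro g _
  by_cases hg : g⁻¹ * x * g ∈ D.H
  · rw [extendByZero_of_mem _ hg, phi]
    exact if_neg (hno g)
  · exact extendByZero_of_not_mem _ hg

/-- An element carrying one of the functions has even order. -/
theorem even_of_ne {i : ℕ} {x : M} (h : D.alpha i x ≠ 0) : Even (orderOf x) := by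
  classical
  obtain ⟨g, hg⟩ := D.exists_conj_of_ne h
  set z := g⁻¹ * x * g with hz
  have hzH : z ∈ D.H := by
    rw [show z = D.a⁻¹ * (D.a * z) by group]
    exact mul_mem (inv_mem D.a_mem) (D.H0_le hg)
  have hn : z ∉ D.H0 := fun hm => (D.two z hzH).1 hm hg
  by_contra hodd
  rw [Nat.not_even_iff_odd] at hodd
  have hxz : orderOf z = orderOf x := by
    rw [hz]
    simpa using (MulAut.conj g⁻¹).orderOf_eq x
  -- a power of `z` with odd exponent lies outside `H0`
  have key : ∀ k : ℕ, (Odd k → z ^ k ∉ D.H0) ∧ (Even k → z ^ k ∈ D.H0) := by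
    intro k
    induction k with
    | zero => exact ⟨fun h => absurd h (by decide), fun _ => by simp⟩
    | succ k ih =>
      rw [pow_succ]
      refine ⟨fun hk hm => hn ((mul_mem_cancel_left (ih.2 ?_)).1 hm), fun hk => ?_⟩
      · rwa [Nat.odd_add_one, Nat.not_odd_iff_even] at hk
      · have hzk : z ^ k ∉ D.H0 := ih.1 (by rwa [Nat.even_add_one, Nat.not_even_iff_odd] at hk)
        have h1 : D.a * (z ^ k) ∈ D.H0 := by
          by_contra hh
          exact hzk ((D.two _ (pow_mem hzH k)).2 hh)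
        have h2 := mul_mem (D.commute _ h1) hg
        have e : D.a * (D.a * z ^ k) * D.a⁻¹ * (D.a * z) = z ^ k * z := by
          rw [← mul_assoc D.a D.a, D.a_sq, one_mul, mul_assoc, inv_mul_cancel_left]
        rwa [e] at h2
  exact (key (orderOf z)).1 (hxz ▸ hodd) (by rw [pow_orderOf_eq_one]; exact one_mem _)

/-- Reciprocity. -/
theorem inner_alpha (i : ℕ) [Fintype D.H0] {F : M → ℂ} (hF : IsClassFunction M F) :
    classInner (D.alpha i) F =
      (Nat.card D.H0 : ℂ)⁻¹ * ∑ h : D.H0, (D.lam h : ℂ) ^ i * conj (F (D.a * h)) := by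
  classical
  haveI : Fintype D.H := Fintype.ofFinite _
  rw [alpha, classInner_indFun_left _ _ _ hF, classInner_def, D.card_H]
  have h1 : ∑ x : D.H, D.phi i x * conj (F x) =
      2 * ∑ h : D.H0, (D.lam h : ℂ) ^ i * conj (F (D.a * h)) := by
    simp only [phi]
    rw [sum_subgroup_ite D.H
        (fun x => (if D.a * x ∈ D.H0 then 2 * (D.lam x : ℂ) ^ i else 0) * conj (F x)),
      sum_subgroup_ite D.H0 (fun h => (D.lam h : ℂ) ^ i * conj (F (D.a * h))), Finset.mul_sum]
    refine Fintype.sum_equiv (Equiv.mulLeft D.a) _ _ fun x => ?_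
    simp only [Equiv.coe_mulLeft]
    by_cases hx : D.a * x ∈ D.H0
    · have hxH : x ∈ D.H := by
        rw [show x = D.a⁻¹ * (D.a * x) by group]
        exact mul_mem (inv_mem D.a_mem) (D.H0_le hx)
      simp [hx, hxH, ← mul_assoc, D.a_sq, D.lam_a]
    · simp [hx]
  rw [h1]
  push_cast
  field_simp

theorem sum_lam_pow [Fintype D.H0] (k : ℕ) :
    ∑ h : D.H0, (D.lam h : ℂ) ^ k = if k % 3 = 0 then (Nat.card D.H0 : ℂ) else 0 := by
  classical
  have h3 : ∀ x : M, (D.lam x : ℂ) ^ 3 = 1 := fun x => by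
    rw [← Units.val_pow_eq_pow_val, D.lam_cube, Units.val_one]
  have hk : ∀ x : M, (D.lam x : ℂ) ^ k = (D.lam x : ℂ) ^ (k % 3) := fun x => by
    conv_lhs => rw [← Nat.mod_add_div k 3, pow_add, pow_mul, h3, one_pow, mul_one]
  split_ifs with hk0
  · simp only [hk, hk0, pow_zero, sum_const, card_univ, nsmul_eq_mul, mul_one,
      ← Nat.card_eq_fintype_card]
  · obtain ⟨x, hx, hne⟩ := D.lam_ne
    have hne' : (D.lam x : ℂ) ^ k ≠ 1 := by
      rw [hk]
      intro e
      apply hne
      apply Units.ext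
      rw [Units.val_one]
      have h := h3 x
      have : k % 3 = 1 ∨ k % 3 = 2 := by omega
      rcases this with hc | hc <;> rw [hc] at e
      · simpa using e
      · rw [pow_succ, e, one_mul] at h; exact h
    have hsum : (D.lam x : ℂ) ^ k * ∑ h : D.H0, (D.lam h : ℂ) ^ k =
        ∑ h : D.H0, (D.lam h : ℂ) ^ k := by
      rw [Finset.mul_sum]
      exact Fintype.sum_equiv (Equiv.mulLeft (⟨x, hx⟩ : D.H0)) _ _ fun h => by simp [mul_pow]
    have h' : ((D.lam x : ℂ) ^ k - 1) * ∑ h : D.H0, (D.lam h : ℂ) ^ k = 0 := by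
      rw [sub_mul, one_mul, hsum, sub_self]
    exact (mul_eq_zero.1 h').resolve_left (sub_ne_zero.2 hne')

theorem sum_S0_lam [Fintype D.H0] [Fintype D.S0] [DecidablePred (· ∈ D.S0)] (k : ℕ) :
    (∑ h : D.H0, if (h : M) ∈ D.S0 then (D.lam h : ℂ) ^ k else 0) = (Nat.card D.S0 : ℂ) := by
  classical
  rw [sum_subgroup_ite D.H0 (fun h => if h ∈ D.S0 then (D.lam h : ℂ) ^ k else 0)]
  rw [show (∑ x : M, if x ∈ D.H0 then (if x ∈ D.S0 then (D.lam x : ℂ) ^ k else 0) else 0) =
      ∑ x : M, if x ∈ D.S0 then (1 : ℂ) else 0 from Finset.sum_congr rfl fun x _ => by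
    by_cases hx : x ∈ D.S0
    · rw [if_pos (D.S0_le hx), if_pos hx, if_pos hx, (D.lam_iff x (D.S0_le hx)).2 hx]
      simp
    · simp [hx], ← sum_subgroup_ite D.S0 (fun _ => (1 : ℂ))]
  simp

theorem extend_phi (j : ℕ) [DecidablePred (· ∈ D.H0)] (z : M) :
    extendByZero D.H (D.phi j) z = if D.a * z ∈ D.H0 then 2 * (D.lam z : ℂ) ^ j else 0 := by
  by_cases hz : z ∈ D.H
  · rw [extendByZero_of_mem _ hz, phi]
    congr 1
  · rw [extendByZero_of_not_mem _ hz, if_neg fun h => hz ?_]
    rw [show z = D.a⁻¹ * (D.a * z) by group]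
    exact mul_mem (inv_mem D.a_mem) (D.H0_le h)

/-- The value of an induced function on the coset `a H0`. -/
theorem alpha_apply (j : ℕ) [DecidablePred (· ∈ D.H0)] {h : M} :
    D.alpha j (D.a * h) = (Nat.card D.H : ℂ)⁻¹ * (2 * (D.lam h : ℂ) ^ j *
      (Nat.card {g : M // D.a * (g⁻¹ * (D.a * h) * g) ∈ D.H0} : ℂ)) := by
  classical
  rw [alpha, indFun_apply]
  congr 1
  simp only [D.extend_phi]
  rw [← Finset.sum_filter,
    Finset.sum_congr rfl (g := fun _ => 2 * (D.lam h : ℂ) ^ j) fun g _ => ?_, Finset.sum_const,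
    nsmul_eq_mul, Nat.card_eq_fintype_card, Fintype.card_subtype]
  · ring
  · have hc : (D.lam (g⁻¹ * (D.a * h) * g) : ℂ) = D.lam (D.a * h) := by
      simpa only [inv_inv] using D.lam_class (D.a * h) g⁻¹
    rw [hc, map_mul, D.lam_a, one_mul]

/-- The Gram matrix. -/
theorem inner_alpha_alpha {i j : ℕ} (hi : i < 3) (hj : j < 3) :
    classInner (D.alpha i) (D.alpha j) = if i = j then 4 else 2 := by
  classical
  haveI : Fintype D.H0 := Fintype.ofFinite _
  haveI : Fintype D.S0 := Fintype.ofFinite _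
  rw [D.inner_alpha i (D.alpha_isClass j)]
  have hterm : ∀ h : D.H0, (D.lam h : ℂ) ^ i * conj (D.alpha j (D.a * h)) =
      2 * (Nat.card D.H : ℂ)⁻¹ * ((2 * Nat.card D.H0 : ℂ) * (D.lam h : ℂ) ^ (i + 2 * j) +
        (6 * Nat.card D.H0 : ℂ) * if (h : M) ∈ D.S0 then (D.lam h : ℂ) ^ (i + 2 * j) else 0) := by
    intro h
    rw [D.alpha_apply]
    simp only [map_mul, map_inv₀, Complex.conj_natCast, map_pow, D.conj_lam, map_ofNat]
    by_cases hh : (h : M) ∈ D.S0
    · rw [(D.count _ h.2).1 hh, if_pos hh]; push_cast; ring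
    · rw [(D.count _ h.2).2 hh, if_neg hh]; push_cast; ring
  rw [Finset.sum_congr rfl fun h _ => hterm h, ← Finset.mul_sum, Finset.sum_add_distrib,
    ← Finset.mul_sum, ← Finset.mul_sum, D.sum_lam_pow, D.sum_S0_lam, D.card_H, D.card_H0]
  have hS : (Nat.card D.S0 : ℂ) ≠ 0 := Nat.cast_ne_zero.2 Nat.card_pos.ne'
  have hiff : (i + 2 * j) % 3 = 0 ↔ i = j := by omega
  simp only [hiff]
  split_ifs <;> push_cast <;> field_simp <;> ring

theorem inner_alpha_one {i : ℕ} (hi : i < 3) :
    classInner (D.alpha i) (fun _ => 1) = if i = 0 then 1 else 0 := by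
  classical
  haveI : Fintype D.H0 := Fintype.ofFinite _
  rw [D.inner_alpha i (fun _ _ => rfl)]
  simp only [map_one, mul_one, D.sum_lam_pow]
  have hiff : i % 3 = 0 ↔ i = 0 := by omega
  simp only [hiff]
  split_ifs <;> simp

/-- The sum of the three coefficients. -/
theorem inner_sum [Fintype D.S0] {F : M → ℂ} (hF : IsClassFunction M F) :
    classInner (D.alpha 0) F + classInner (D.alpha 1) F + classInner (D.alpha 2) F =
      (Nat.card D.S0 : ℂ)⁻¹ * ∑ s : D.S0, conj (F (D.a * s)) := by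
  classical
  haveI : Fintype D.H0 := Fintype.ofFinite _
  rw [D.inner_alpha 0 hF, D.inner_alpha 1 hF, D.inner_alpha 2 hF, ← mul_add, ← mul_add,
    ← Finset.sum_add_distrib, ← Finset.sum_add_distrib]
  have hterm : ∀ h : D.H0, (D.lam h : ℂ) ^ 0 * conj (F (D.a * h)) +
      (D.lam h : ℂ) ^ 1 * conj (F (D.a * h)) + (D.lam h : ℂ) ^ 2 * conj (F (D.a * h)) =
      3 * if (h : M) ∈ D.S0 then conj (F (D.a * h)) else 0 := by
    intro h
    by_cases hh : (h : M) ∈ D.S0
    · rw [if_pos hh, (D.lam_iff _ h.2).2 hh]; push_cast; ring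
    · rw [if_neg hh, mul_zero]
      have hne : (D.lam h : ℂ) ≠ 1 := fun e => hh ((D.lam_iff _ h.2).1 (Units.ext e))
      have h3 : (D.lam h : ℂ) ^ 3 = 1 := by
        rw [← Units.val_pow_eq_pow_val, D.lam_cube, Units.val_one]
      have : 1 + (D.lam h : ℂ) + (D.lam h : ℂ) ^ 2 = 0 := by
        refine (mul_eq_zero.1 (?_ : ((D.lam h : ℂ) - 1) * _ = 0)).resolve_left (sub_ne_zero.2 hne)
        linear_combination h3
      linear_combination conj (F (D.a * h)) * this
  rw [Finset.sum_congr rfl fun h _ => hterm h, ← Finset.mul_sum, D.card_H0]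
  have hsum : (∑ h : D.H0, if (h : M) ∈ D.S0 then conj (F (D.a * h)) else 0) =
      ∑ s : D.S0, conj (F (D.a * s)) := by
    rw [sum_subgroup_ite D.H0 (fun h => if h ∈ D.S0 then conj (F (D.a * h)) else 0),
      sum_subgroup_ite D.S0 (fun h => conj (F (D.a * h)))]
    refine Finset.sum_congr rfl fun x _ => ?_
    by_cases hx : x ∈ D.S0
    · rw [if_pos hx, if_pos (D.S0_le hx)]
    · simp [hx]
  rw [hsum]
  push_cast
  field_simp

end Datum

end Cfsg.Agent.H85.ElemEight
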