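import Cfsg.Agent.S0074
import Cfsg.Agent.S0013
import Cfsg.Agent.H77.AutPGroup

/-!
# The automizer of an elementary abelian Sylow subgroup of order eight in a perfect group
-/

set_option autoImplicit false
set_option linter.unusedSectionVars false
set_option linter.style.haveILetI false

namespace Cfsg.Agent.H85.ElemEight

open Subgroup

universe u

variable {G : Type u} [Group G] [Finite G]

/-- The standing hypotheses. -/
structure Hyp (P : Sylow 2 G) : Prop where
  comm : ∀ a ∈ (P : Subgroup G), ∀ b ∈ (P : Subgroup G), a * b = b * a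
  sq : ∀ a ∈ (P : Subgroup G), a ^ 2 = 1
  card : Nat.card (P : Subgroup G) = 8
  solv : ∀ t : G, orderOf t = 2 → Group.IsSolvable ↥(centralizer ({t} : Set G))

variable {P : Sylow 2 G}

theorem Hyp.le_centralizer (h : Hyp P) :
    (P : Subgroup G) ≤ centralizer ((P : Subgroup G) : Set G) :=
  fun a ha => mem_centralizer_iff.2 fun b hb => h.comm b hb a ha

theorem Hyp.orderOf_eq (h : Hyp P) {a : G} (ha : a ∈ (P : Subgroup G)) (ha1 : a ≠ 1) :
    orderOf a = 2 :=
  haveI : Fact (Nat.Prime 2) := ⟨Nat.prime_two⟩
  orderOf_eq_prime (h.sq a ha) ha1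

variable (P)

/-- The action of the normalizer on the Sylow subgroup. -/
noncomputable def act : normalizer ((P : Subgroup G) : Set G) →* MulAut (P : Subgroup G) :=
  normalizerMonoidHom (P : Subgroup G)

theorem act_apply (n : normalizer ((P : Subgroup G) : Set G)) (v : (P : Subgroup G)) :
    ((act P n v : (P : Subgroup G)) : G) = (n : G) * v * (n : G)⁻¹ := rfl

theorem card_range_act :
    Nat.card (act P).range = (centralizer ((P : Subgroup G) : Set G)).relIndex
      (normalizer ((P : Subgroup G) : Set G)) := by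
  rw [← index_ker, relIndex, act, normalizerMonoidHom_ker]

/-- An element of order `p` acts with a fixed point set of size congruent to eight. -/
theorem card_fixed_modEq (A : Subgroup (MulAut (P : Subgroup G))) {p : ℕ} [Fact p.Prime]
    (hA : Nat.card A = p) :
    Nat.card (P : Subgroup G) ≡
      Nat.card (MulAction.fixedPoints A (P : Subgroup G)) [MOD p] :=
  (IsPGroup.of_card (n := 1) (by rw [hA, pow_one])).card_modEq_card_fixedPoints _

variable {P}

theorem Hyp.no_fixed (h : Hyp P) (hperf : commutator G = ⊤) {a : G} (ha : a ∈ (P : Subgroup G))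
    (hfix : ∀ n ∈ normalizer ((P : Subgroup G) : Set G), n * a * n⁻¹ = a) : a = 1 := by
  classical
  haveI : Fact (Nat.Prime 2) := ⟨Nat.prime_two⟩
  set N := normalizer ((P : Subgroup G) : Set G) with hN
  have h0 := S0074.result P ⟨⟨fun x y => Subtype.ext (h.comm x x.2 y y.2)⟩⟩
  rw [hperf, top_inf_eq] at h0
  have haN : a ∈ ⁅N, N⁆ := (h0 ▸ ha : a ∈ ⁅N, N⁆ ⊓ (P : Subgroup G)).1
  set Q : Subgroup N := (P : Subgroup G).subgroupOf N with hQ
  have hPN : (P : Subgroup G) ≤ N := le_normalizer
  letI : CommGroup Q :=
    { (inferInstance : Group Q) with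
      mul_comm := fun x y => Subtype.ext (Subtype.ext (h.comm _ x.2 _ y.2)) }
  haveI : Q.FiniteIndex := inferInstance
  set f : N →* Q := MonoidHom.transfer (MonoidHom.id Q) with hf
  set g : N := ⟨a, hPN ha⟩
  have hcen : ∀ (k : ℕ) (g₀ : N), g₀⁻¹ * g ^ k * g₀ = g ^ k := by
    intro k g₀
    have hc : g₀ * g = g * g₀ := Subtype.ext (by
      show (g₀ : G) * a = a * g₀
      conv_rhs => rw [← hfix g₀ g₀.2]
      group)
    rw [mul_assoc, ((Commute.pow_right (show Commute g₀ g from hc) k)).eq.symm, ← mul_assoc,
      inv_mul_cancel, one_mul]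
  have hval := MonoidHom.transfer_eq_pow (ϕ := MonoidHom.id Q) g fun k g₀ _ => hcen k g₀
  have hker : g ∈ f.ker := by
    have hle : commutator N ≤ f.ker := by
      rw [commutator_def, commutator_le]
      intro x _ y _
      rw [MonoidHom.mem_ker, map_commutatorElement, commutatorElement_eq_one_iff_mul_comm]
      exact mul_comm _ _
    refine hle ?_
    have : ⁅N, N⁆ = (commutator N).map N.subtype := (map_subtype_commutator N).symm
    rw [this] at haN
    obtain ⟨g', hg', e⟩ := haN
    rwa [show g = g' from Subtype.ext e.symm]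
  rw [MonoidHom.mem_ker, hf, hval] at hker
  have he : a ^ Q.index = 1 := congrArg (fun q : Q => ((q : N) : G)) hker
  have hodd : Odd Q.index := by
    rw [← Nat.not_even_iff_odd, even_iff_two_dvd]
    exact fun h2 => P.not_dvd_index (h2.trans (relIndex_dvd_index_of_le hPN))
  obtain ⟨k, hk⟩ := hodd
  rw [hk, pow_succ, pow_mul, h.sq a ha, one_pow, one_mul] at he
  exact he

/-- The automizer has order seven or twenty-one. -/
theorem Hyp.automizer_cases (h : Hyp P) (hperf : commutator G = ⊤) :
    (centralizer ((P : Subgroup G) : Set G)).relIndex (normalizer ((P : Subgroup G) : Set G)) = 7 ∨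
    (centralizer ((P : Subgroup G) : Set G)).relIndex
      (normalizer ((P : Subgroup G) : Set G)) = 21 := by
  classical
  haveI : Fact (Nat.Prime 2) := ⟨Nat.prime_two⟩
  set e := (centralizer ((P : Subgroup G) : Set G)).relIndex
    (normalizer ((P : Subgroup G) : Set G)) with he
  have hodd : ¬ 2 ∣ e := fun h2 => P.not_dvd_index (h2.trans
    (((centralizer ((P : Subgroup G) : Set G)).relIndex_dvd_index_of_le
      (centralizer_le_normalizer _)).trans (index_dvd_of_le h.le_centralizer)))
  have hdvd : e ∣ 168 := by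
    rw [he, ← card_range_act P]
    refine (card_subgroup_dvd_card _).trans ?_
    have hp : IsPGroup 2 (P : Subgroup G) := P.isPGroup'
    have hf : frattini (P : Subgroup G) = ⊥ := S0013.frattini_eq_bot 2
      (fun a b => Subtype.ext (h.comm a a.2 b b.2)) (fun a => Subtype.ext (h.sq a a.2))
    have := H77.card_mulAut_dvd hp (r := 3) (by rw [hf, index_bot, h.card]; norm_num)
    rw [hf, card_bot, one_pow, one_mul] at this
    exact this.trans (dvd_of_eq (by decide))
  have hne1 : e ≠ 1 := by
    intro h1
    obtain ⟨a, ha1⟩ : ∃ a : (P : Subgroup G), a ≠ 1 := by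
      haveI : Nontrivial (P : Subgroup G) := Finite.one_lt_card_iff_nontrivial.1 (by rw [h.card]; norm_num)
      exact exists_ne 1
    refine ha1 (Subtype.ext (h.no_fixed hperf a.2 fun n hn => ?_))
    have hc : n ∈ centralizer ((P : Subgroup G) : Set G) := relIndex_eq_one.1 h1 hn
    rw [← mem_centralizer_iff.1 hc a a.2, mul_inv_cancel_right]
  have hne3 : e ≠ 3 := by
    intro h3
    haveI : Fact (Nat.Prime 3) := ⟨Nat.prime_three⟩
    have hm := card_fixed_modEq P (act P).range (p := 3) (by rw [card_range_act, ← he, h3])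
    rw [h.card] at hm
    haveI : Nontrivial (MulAction.fixedPoints (act P).range (P : Subgroup G)) := by
      rw [← Finite.one_lt_card_iff_nontrivial]
      unfold Nat.ModEq at hm
      omega
    obtain ⟨⟨a, hafix⟩, hne⟩ := exists_ne
      (⟨1, fun g => map_one (g : MulAut (P : Subgroup G))⟩ :
        MulAction.fixedPoints (act P).range (P : Subgroup G))
    refine hne (Subtype.ext (Subtype.ext (h.no_fixed hperf a.2 fun n hn => ?_)))
    exact congrArg Subtype.val (hafix ⟨act P ⟨n, hn⟩, ⟨n, hn⟩, rfl⟩)
  have hle : e ≤ 168 := Nat.le_of_dvd (by norm_num) hdvd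
  interval_cases e <;> omega

end Cfsg.Agent.H85.ElemEight
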