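import Mathlib

/-!
# A self-centralising normal fours-eight subgroup in a group of order 168

The quotient of the strongly embedded subgroup by its signalizer closure.
-/

set_option autoImplicit false
set_option linter.unusedSectionVars false
set_option linter.style.haveILetI false

namespace Cfsg.Agent.H85.ElemEight

open Subgroup

variable {Q : Type*} [Group Q] [Finite Q]

/-- Conjugators of `x` into a set of its conjugates. -/
theorem card_conjugators (x : Q) (T : Set Q) (hT : ∀ t ∈ T, ∃ g : Q, g⁻¹ * x * g = t) :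
    Nat.card {g : Q // g⁻¹ * x * g ∈ T} =
      Nat.card T * Nat.card (centralizer ({x} : Set Q)) := by
  classical
  choose s hs using hT
  rw [← Nat.card_prod]
  symm
  refine Nat.card_eq_of_bijective
    (fun p : T × centralizer ({x} : Set Q) => ⟨(p.2 : Q) * s p.1 p.1.2, ?_⟩) ⟨?_, ?_⟩
  · have hc := mem_centralizer_singleton_iff.1 p.2.2
    rw [show ((p.2 : Q) * s p.1 p.1.2)⁻¹ * x * ((p.2 : Q) * s p.1 p.1.2) =
      (s p.1 p.1.2)⁻¹ * ((p.2 : Q)⁻¹ * (x * (p.2 : Q))) * s p.1 p.1.2 by group, ← hc,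
      inv_mul_cancel_left, hs]
    exact p.1.2
  · rintro ⟨t, c⟩ ⟨t', c'⟩ e
    have e' : (c : Q) * s t t.2 = (c' : Q) * s t' t'.2 := congrArg Subtype.val e
    have key : ∀ (t : T) (c : centralizer ({x} : Set Q)),
        ((c : Q) * s t t.2)⁻¹ * x * ((c : Q) * s t t.2) = t := fun t c => by
      have hc := mem_centralizer_singleton_iff.1 c.2
      rw [show ((c : Q) * s t t.2)⁻¹ * x * ((c : Q) * s t t.2) =
        (s t t.2)⁻¹ * ((c : Q)⁻¹ * (x * (c : Q))) * s t t.2 by group, ← hc,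
        inv_mul_cancel_left, hs]
    have ht : t = t' := Subtype.ext (by rw [← key t c, ← key t' c', e'])
    subst ht
    rw [Prod.mk.injEq]
    exact ⟨rfl, Subtype.ext (mul_right_cancel e')⟩
  · rintro ⟨g, hg⟩
    refine ⟨(⟨_, hg⟩, ⟨g * (s _ hg)⁻¹, mem_centralizer_singleton_iff.2 ?_⟩),
      Subtype.ext (inv_mul_cancel_right g _)⟩
    calc g * (s _ hg)⁻¹ * x
        = g * ((s _ hg)⁻¹ * x * s _ hg) * (s _ hg)⁻¹ := by group
      _ = g * (g⁻¹ * x * g) * (s _ hg)⁻¹ := by rw [hs]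
      _ = x * (g * (s _ hg)⁻¹) := by group

/-- The data extracted from the group of order 168. -/
structure Line (Q : Type*) [Group Q] (a : Q) where
  V : Subgroup Q
  H0 : Subgroup Q
  S0 : Subgroup Q
  lam : Q →* ℂˣ
  le_cent : H0 ≤ centralizer ({a} : Set Q)
  card_cent : Nat.card (centralizer ({a} : Set Q)) = 24
  card_H0 : Nat.card H0 = 12
  card_S0 : Nat.card S0 = 4
  S0_le : S0 ≤ H0
  S0_le_V : S0 ≤ V
  not_mem : a ∉ H0
  two : ∀ x ∈ centralizer ({a} : Set Q), (x ∈ H0 ↔ a * x ∉ H0)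
  lam_V : ∀ v ∈ V, lam v = 1
  lam_cube : ∀ x, lam x ^ 3 = 1
  lam_iff : ∀ x ∈ H0, (lam x = 1 ↔ x ∈ S0)
  lam_ne : ∃ x ∈ H0, lam x ≠ 1
  cube : ∀ x ∈ H0, x ∉ S0 → x ^ 3 = 1
  count : ∀ x ∈ H0, (x ∈ S0 → Nat.card {g : Q // a * (g⁻¹ * (a * x) * g) ∈ H0} = 96) ∧
    (x ∉ S0 → Nat.card {g : Q // a * (g⁻¹ * (a * x) * g) ∈ H0} = 24)

/-- A linear character of order three trivial on `V`. -/
theorem exists_lam (V : Subgroup Q) [V.Normal] (hV : Nat.card V = 8) (hQ : Nat.card Q = 168) :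
    ∃ lam : Q →* ℂˣ, (∀ v ∈ V, lam v = 1) ∧ (∀ x, lam x ^ 3 = 1) ∧
      ∀ y : Q, orderOf y = 3 → lam y ≠ 1 := by
  classical
  haveI : Fact (Nat.Prime 7) := ⟨by norm_num⟩
  haveI : Fact (Nat.Prime 3) := ⟨Nat.prime_three⟩
  have hidx : Nat.card (Q ⧸ V) = 21 := by
    have := V.index_mul_card
    rw [hQ, hV] at this
    change V.index = 21
    omega
  obtain ⟨S⟩ : Nonempty (Sylow 7 (Q ⧸ V)) := inferInstance
  have hScard : Nat.card (S : Subgroup (Q ⧸ V)) = 7 := by
    rw [S.card_eq_multiplicity, hidx]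
    norm_num [show Nat.factorization 21 7 = 1 by
      rw [show (21 : ℕ) = 3 * 7 by norm_num, Nat.factorization_mul (by norm_num) (by norm_num),
        Nat.prime_three.factorization, (Fact.out : Nat.Prime 7).factorization]
      simp]
  have hSidx : (S : Subgroup (Q ⧸ V)).index = 3 := by
    have := (S : Subgroup (Q ⧸ V)).index_mul_card
    rw [hidx, hScard] at this
    omega
  haveI hSn : (S : Subgroup (Q ⧸ V)).Normal := by
    have h1 := card_sylow_modEq_one 7 (Q ⧸ V)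
    have h2 := S.card_dvd_index
    rw [hSidx] at h2
    have hle := Nat.le_of_dvd (by norm_num) h2
    have : Nat.card (Sylow 7 (Q ⧸ V)) = 1 := by
      unfold Nat.ModEq at h1
      omega
    haveI := (Nat.card_eq_one_iff_unique.1 this).1
    exact S.normal_of_subsingleton
  set R : Subgroup Q := (S : Subgroup (Q ⧸ V)).comap (QuotientGroup.mk' V) with hR
  have hRidx : R.index = 3 := by
    rw [hR, index_comap_of_surjective _ (QuotientGroup.mk'_surjective V), hSidx]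
  haveI : R.Normal := inferInstance
  have hc3 : Nat.card (Q ⧸ R) = 3 := hRidx
  haveI : IsCyclic (Q ⧸ R) := isCyclic_of_prime_card hc3
  let e : (Q ⧸ R) ≃* rootsOfUnity 3 ℂ := mulEquivOfCyclicCardEq (by
    rw [hc3, HasEnoughRootsOfUnity.natCard_rootsOfUnity ℂ 3])
  refine ⟨(rootsOfUnity 3 ℂ).subtype.comp (e.toMonoidHom.comp (QuotientGroup.mk' R)),
    fun v hv => ?_, fun x => ?_, fun y hy h1 => ?_⟩
  · have : (QuotientGroup.mk' R v) = 1 := (QuotientGroup.eq_one_iff v).2 (by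
      rw [hR, mem_comap, show QuotientGroup.mk' V v = 1 from (QuotientGroup.eq_one_iff v).2 hv]
      exact one_mem _)
    simp [show ((v : Q ⧸ R)) = 1 from this]
  · exact (mem_rootsOfUnity 3 _).1 (e (QuotientGroup.mk' R x)).2
  · have h2 : e (QuotientGroup.mk' R y) = 1 := Subtype.ext h1
    rw [EmbeddingLike.map_eq_one_iff, QuotientGroup.mk'_apply, QuotientGroup.eq_one_iff] at h2
    have h3 := orderOf_dvd_natCard (G := R) ⟨y, h2⟩
    have hRc := R.index_mul_card
    rw [hRidx, hQ] at hRc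
    rw [orderOf_mk, hy, show Nat.card R = 56 by omega] at h3
    norm_num at h3

/-- The structure of the quotient. -/
theorem exists_line (V : Subgroup Q) [V.Normal] (hV : Nat.card V = 8)
    (hsq : ∀ v ∈ V, v ^ 2 = 1) (hcomm : ∀ v ∈ V, ∀ w ∈ V, v * w = w * v)
    (hC : centralizer (V : Set Q) ≤ V) (hQ : Nat.card Q = 168) {a : Q} (ha : a ∈ V) (ha1 : a ≠ 1)
    (htrans : ∀ b ∈ V, b ≠ 1 → ∃ g : Q, g⁻¹ * a * g = b) :
    ∃ L : Line Q a, L.V = V := by
  classical
  haveI : Fact (Nat.Prime 3) := ⟨Nat.prime_three⟩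
  have hcentcard : ∀ x ∈ V, x ≠ 1 → Nat.card (centralizer ({x} : Set Q)) = 24 := by
    intro x hx hx1
    have h := card_conjugators x {t : Q | t ∈ V ∧ t ≠ 1} (fun t ht => by
      obtain ⟨g, hg⟩ := htrans x hx hx1
      obtain ⟨g', hg'⟩ := htrans t ht.1 ht.2
      exact ⟨g⁻¹ * g', by rw [← hg', ← hg]; group⟩)
    have hall : Nat.card {g : Q // g⁻¹ * x * g ∈ {t : Q | t ∈ V ∧ t ≠ 1}} = Nat.card Q := by
      refine Nat.card_congr (Equiv.subtypeUnivEquiv fun g => ⟨?_, ?_⟩)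
      · simpa using Normal.conj_mem ‹V.Normal› x hx g⁻¹
      · intro e
        exact hx1 (by simpa using conj_eq_one_iff.1 (show g⁻¹ * x * (g⁻¹)⁻¹ = 1 by rwa [inv_inv]))
    have hT : Nat.card {t : Q | t ∈ V ∧ t ≠ 1} = 7 := by
      have h8 := Set.ncard_sdiff_singleton_of_mem (show (1 : Q) ∈ (V : Set Q) from one_mem V)
      rw [← Nat.card_coe_set_eq (V : Set Q)] at h8
      rw [Nat.card_coe_set_eq, show {t : Q | t ∈ V ∧ t ≠ 1} = (V : Set Q) \ {1} from rfl, h8]
      show Nat.card V - 1 = 7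
      rw [hV]
    rw [hall, hQ, hT] at h
    omega
  have hHcard := hcentcard a ha ha1
  obtain ⟨y0, hy0⟩ := exists_prime_orderOf_dvd_card' (G := centralizer ({a} : Set Q)) 3
    (by rw [hHcard]; norm_num)
  set y : Q := (y0 : Q) with hy
  have hyo : orderOf y = 3 := by rw [hy, orderOf_coe, hy0]
  have hy3 : y ^ 3 = 1 := hyo ▸ pow_orderOf_eq_one y
  have hya : y * a = a * y := mem_centralizer_singleton_iff.1 y0.2
  obtain ⟨lam, hlamV, hlam3, hlam⟩ := exists_lam V hV hQ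
  have hly : lam y ≠ 1 := hlam y hyo
  let ψ : V →* V :=
    { toFun := fun w => ⟨y * w * y⁻¹ * (w : Q)⁻¹,
        mul_mem (Normal.conj_mem ‹V.Normal› _ w.2 y) (inv_mem w.2)⟩
      map_one' := Subtype.ext (by simp)
      map_mul' := fun u w => Subtype.ext (by
        show y * ((u : Q) * w) * y⁻¹ * ((u : Q) * w)⁻¹ =
          y * u * y⁻¹ * (u : Q)⁻¹ * (y * w * y⁻¹ * (w : Q)⁻¹)
        have h1 := hcomm (y * w * y⁻¹ * (w : Q)⁻¹)
          (mul_mem (Normal.conj_mem ‹V.Normal› _ w.2 y) (inv_mem w.2)) (u : Q)⁻¹ (inv_mem u.2)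
        rw [show y * u * y⁻¹ * (u : Q)⁻¹ * (y * w * y⁻¹ * (w : Q)⁻¹) =
          y * u * y⁻¹ * ((u : Q)⁻¹ * (y * w * y⁻¹ * (w : Q)⁻¹)) by group, ← h1]
        group) }
  set S0 : Subgroup Q := ψ.range.map V.subtype with hS0
  have hS0V : S0 ≤ V := map_subtype_le _
  have htau : ∀ v ∈ S0, v * (y * v * y⁻¹) * (y ^ 2 * v * (y ^ 2)⁻¹) = 1 := by
    rintro _ ⟨_, ⟨w, rfl⟩, rfl⟩
    set v : Q := y * w * y⁻¹ * (w : Q)⁻¹ with hv
    have hvV : v ∈ V := (ψ w).2
    show v * (y * v * y⁻¹) * (y ^ 2 * v * (y ^ 2)⁻¹) = 1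
    have hB : y * v * y⁻¹ ∈ V := Normal.conj_mem ‹V.Normal› _ hvV y
    have hC' : y ^ 2 * v * (y ^ 2)⁻¹ ∈ V := Normal.conj_mem ‹V.Normal› _ hvV _
    rw [hcomm v hvV _ hB, hcomm _ (mul_mem hB hvV) _ hC', ← mul_assoc,
      show y ^ 2 * v * (y ^ 2)⁻¹ * (y * v * y⁻¹) * v = y ^ 3 * w * (y ^ 3)⁻¹ * (w : Q)⁻¹ by
        rw [hv]; group, hy3]
    group
  have hfix : ∀ v ∈ S0, y * v * y⁻¹ = v → v = 1 := by
    intro v hv hyv
    have h := htau v hv
    have hy2v : y ^ 2 * v * (y ^ 2)⁻¹ = v := by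
      rw [show y ^ 2 * v * (y ^ 2)⁻¹ = y * (y * v * y⁻¹) * y⁻¹ by rw [pow_two]; group, hyv, hyv]
    rw [hyv, hy2v, ← pow_two, hsq v (hS0V hv), one_mul] at h
    exact h
  have hker : Nat.card ψ.ker = 2 := by
    have hdvd : Nat.card ψ.ker ∣ 2 ^ 3 := by
      have := card_subgroup_dvd_card ψ.ker
      rwa [hV] at this
    have haker : (⟨a, ha⟩ : V) ∈ ψ.ker := Subtype.ext (by
      show y * a * y⁻¹ * a⁻¹ = 1
      rw [hya]
      group)
    have h2 : 2 ∣ Nat.card ψ.ker := by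
      have ho : orderOf a = 2 := orderOf_eq_prime (hsq a ha) ha1
      rw [← ho, ← orderOf_mk a ha, ← orderOf_mk (⟨a, ha⟩ : V) haker]
      exact orderOf_dvd_natCard _
    have hrange := Subgroup.index_ker ψ
    have hprod := ψ.ker.index_mul_card
    rw [hrange, hV] at hprod
    obtain ⟨k, hk, hk'⟩ := (Nat.dvd_prime_pow Nat.prime_two).1 hdvd
    interval_cases k
    · omega
    · exact hk'
    · exfalso
      have hr : Nat.card ψ.range = 2 := by rw [hk'] at hprod; omega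
      haveI : Nontrivial ψ.range := Finite.one_lt_card_iff_nontrivial.1 (by rw [hr]; norm_num)
      obtain ⟨s, hs⟩ := exists_ne (1 : ψ.range)
      have huniq : ∀ t : ψ.range, t ≠ 1 → t = s := fun t ht =>
        ((Nat.card_eq_two_iff' (1 : ψ.range)).1 hr).unique ht hs
      have hsS0 : ((s : V) : Q) ∈ S0 := ⟨_, s.2, rfl⟩
      obtain ⟨w, hw⟩ := s.2
      set t : ψ.range := ⟨ψ ⟨y * w * y⁻¹, Normal.conj_mem ‹V.Normal› _ w.2 y⟩, ⟨_, rfl⟩⟩ with ht
      have htval : ((t : V) : Q) = y * ((s : V) : Q) * y⁻¹ := by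
        show y * (y * w * y⁻¹) * y⁻¹ * (y * w * y⁻¹)⁻¹ = y * ((s : V) : Q) * y⁻¹
        rw [← hw]
        show _ = y * (y * w * y⁻¹ * (w : Q)⁻¹) * y⁻¹
        group
      have hne : ((s : V) : Q) ≠ 1 := fun e => hs (Subtype.ext (Subtype.ext e))
      have ht1 : t ≠ 1 := fun e => hne (conj_eq_one_iff.1 (htval.symm.trans
        (congrArg (fun z : ψ.range => ((z : V) : Q)) e)))
      exact hne (hfix _ hsS0 (htval.symm.trans
        (congrArg (fun z : ψ.range => ((z : V) : Q)) (huniq t ht1))))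
    · exfalso
      have htop : ψ.ker = ⊤ := by
        rw [← card_eq_iff_eq_top, hk', hV]; norm_num
      have hyC : y ∈ centralizer (V : Set Q) := mem_centralizer_iff.2 fun w hw => by
        have e : ψ ⟨w, hw⟩ = 1 := MonoidHom.mem_ker.1 (by rw [htop]; exact mem_top _)
        have e' : y * w * y⁻¹ * w⁻¹ = 1 := congrArg Subtype.val e
        exact ((mul_inv_eq_iff_eq_mul).1 ((mul_inv_eq_one).1 e')).symm
      have h3 : orderOf y ∣ 2 := orderOf_dvd_of_pow_eq_one (hsq y (hC hyC))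
      rw [hyo] at h3
      norm_num at h3
  have hS0card : Nat.card S0 = 4 := by
    rw [hS0, card_map_of_injective (subtype_injective V)]
    have hrange := Subgroup.index_ker ψ
    have hprod := ψ.ker.index_mul_card
    rw [hrange, hV, hker] at hprod
    omega
  have hS0norm : zpowers y ≤ normalizer (S0 : Set Q) := by
    refine zpowers_le.2 ?_
    rw [mem_normalizer_iff_map_conj_eq]
    refine eq_of_le_of_card_ge ?_
      (le_of_eq (card_map_of_injective (MulAut.conj y).injective).symm)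
    rintro _ ⟨_, ⟨_, ⟨w, rfl⟩, rfl⟩, rfl⟩
    refine ⟨ψ ⟨y * w * y⁻¹, Normal.conj_mem ‹V.Normal› _ w.2 y⟩, ⟨_, rfl⟩, ?_⟩
    show y * (y * w * y⁻¹) * y⁻¹ * (y * w * y⁻¹)⁻¹ = y * (y * w * y⁻¹ * (w : Q)⁻¹) * y⁻¹
    group
  set H0 : Subgroup Q := S0 ⊔ zpowers y with hH0
  have hH0mem : ∀ x, x ∈ H0 ↔ ∃ v ∈ S0, ∃ z ∈ zpowers y, x = v * z := by
    intro x
    refine ⟨fun hx => ?_, ?_⟩
    · rw [hH0, ← SetLike.mem_coe, coe_mul_of_right_le_normalizer_left _ _ hS0norm] at hx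
      obtain ⟨v, hv, z, hz, e⟩ := hx
      exact ⟨v, hv, z, hz, e.symm⟩
    · rintro ⟨v, hv, z, hz, rfl⟩
      exact mul_mem (mem_sup_left hv) (mem_sup_right hz)
  have hzp : ∀ z ∈ zpowers y, z = 1 ∨ z = y ∨ z = y ^ 2 := by
    intro z hz
    obtain ⟨k, rfl⟩ := mem_powers_iff_mem_zpowers.2 hz
    show y ^ k = 1 ∨ y ^ k = y ∨ y ^ k = y ^ 2
    rw [show y ^ k = y ^ (k % 3) by rw [← hyo, pow_mod_orderOf]]
    have : k % 3 < 3 := Nat.mod_lt _ (by norm_num)
    interval_cases h : k % 3 <;> simp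
  have hlam1 : ∀ x ∈ H0, lam x = 1 → x ∈ S0 := by
    intro x hx h1
    obtain ⟨v, hv, z, hz, rfl⟩ := (hH0mem x).1 hx
    rw [map_mul, hlamV v (hS0V hv), one_mul] at h1
    rcases hzp z hz with rfl | rfl | rfl
    · rwa [mul_one]
    · exact absurd h1 hly
    · exfalso
      apply hly
      have h3 := hlam3 y
      rw [map_pow] at h1
      rw [pow_succ, h1, one_mul] at h3
      exact h3
  have hanot : a ∉ H0 := fun h => by
    have h1 := hlam1 a h (hlamV a ha)
    exact ha1 (hfix a h1 (by rw [hya]; group))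
  have hH0le : H0 ≤ centralizer ({a} : Set Q) := sup_le
    (fun v hv => mem_centralizer_singleton_iff.2 (hcomm v (hS0V hv) a ha))
    (zpowers_le.2 y0.2)
  have hdisj : ∀ v ∈ S0, v ∈ zpowers y → v = 1 := by
    intro v hv hz
    have h1 := orderOf_dvd_natCard (G := zpowers y) ⟨v, hz⟩
    rw [orderOf_mk, Nat.card_zpowers, hyo] at h1
    have h2 : orderOf v ∣ 2 := orderOf_dvd_of_pow_eq_one (hsq v (hS0V hv))
    exact orderOf_eq_one_iff.1 (Nat.eq_one_of_dvd_coprimes (by norm_num : Nat.Coprime 3 2) h1 h2)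
  have hH0card : Nat.card H0 = 12 := by
    rw [show 12 = Nat.card (S0 × zpowers y) by
      rw [Nat.card_prod, hS0card, Nat.card_zpowers, hyo]]
    symm
    refine Nat.card_eq_of_bijective
      (fun p : S0 × zpowers y => ⟨(p.1 : Q) * p.2, (hH0mem _).2 ⟨_, p.1.2, _, p.2.2, rfl⟩⟩)
      ⟨?_, ?_⟩
    · rintro ⟨v, z⟩ ⟨v', z'⟩ e
      have e' : (v : Q) * z = (v' : Q) * z' := congrArg Subtype.val e
      have h1 : (v' : Q)⁻¹ * v = (z' : Q) * (z : Q)⁻¹ := by
        rw [eq_mul_inv_iff_mul_eq, mul_assoc, e', inv_mul_cancel_left]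
      have h2 : (v' : Q)⁻¹ * v = 1 :=
        hdisj _ (mul_mem (inv_mem v'.2) v.2) (h1 ▸ mul_mem z'.2 (inv_mem z.2))
      have hv : v = v' := Subtype.ext (inv_mul_eq_one.1 h2).symm
      subst hv
      rw [Prod.mk.injEq]
      exact ⟨rfl, Subtype.ext (mul_left_cancel e')⟩
    · rintro ⟨x, hx⟩
      obtain ⟨v, hv, z, hz, rfl⟩ := (hH0mem x).1 hx
      exact ⟨(⟨v, hv⟩, ⟨z, hz⟩), rfl⟩
  have htwo : ∀ x ∈ centralizer ({a} : Set Q), (x ∈ H0 ↔ a * x ∉ H0) := by
    set H := centralizer ({a} : Set Q)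
    have hidx : (H0.subgroupOf H).index = 2 := by
      have h := (H0.subgroupOf H).index_mul_card
      rw [Nat.card_congr (subgroupOfEquivOfLe hH0le).toEquiv, hH0card, hHcard] at h
      omega
    intro x hx
    have haH : a ∈ H := mem_centralizer_singleton_iff.2 rfl
    have h := mul_mem_iff_of_index_two hidx (a := (⟨a, haH⟩ : H)) (b := ⟨x, hx⟩)
    simp only [mem_subgroupOf, Subgroup.coe_mul] at h
    tauto
  have hcube : ∀ x ∈ H0, x ∉ S0 → x ^ 3 = 1 := by
    intro x hx hxS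
    obtain ⟨v, hv, z, hz, rfl⟩ := (hH0mem x).1 hx
    have h := htau v hv
    rcases hzp z hz with rfl | rfl | rfl
    · exact absurd (by rwa [mul_one]) hxS
    · rw [show (v * y) ^ 3 = v * (y * v * y⁻¹) * (y ^ 2 * v * (y ^ 2)⁻¹) * y ^ 3 by
        simp only [pow_succ, pow_zero, one_mul]; group, h, hy3, one_mul]
    · have hB : y * v * y⁻¹ ∈ V := Normal.conj_mem ‹V.Normal› _ (hS0V hv) y
      have hC' : y ^ 2 * v * (y ^ 2)⁻¹ ∈ V := Normal.conj_mem ‹V.Normal› _ (hS0V hv) _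
      rw [show (v * y ^ 2) ^ 3 = v * (y ^ 2 * v * (y ^ 2)⁻¹) *
          (y ^ 3 * (y * v * y⁻¹) * (y ^ 3)⁻¹) * (y ^ 3 * y ^ 3) by
        simp only [pow_succ, pow_zero, one_mul, mul_inv_rev, mul_assoc, inv_mul_cancel_left], hy3, one_mul, inv_one, mul_one, one_mul,
        mul_one, mul_assoc, hcomm _ hC' _ hB, ← mul_assoc, h]
  have haa : a * a = 1 := by rw [← pow_two, hsq a ha]
  have hS0H0 : S0 ≤ H0 := le_sup_left
  refine ⟨⟨V, H0, S0, lam, hH0le, hHcard, hH0card, hS0card, hS0H0, hS0V, hanot, htwo, hlamV,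
    hlam3, fun x hx => ⟨hlam1 x hx, fun h => hlamV x (hS0V h)⟩,
    ⟨y, mem_sup_right (mem_zpowers y), hly⟩, hcube, fun x hx => ⟨fun hxS => ?_, fun hxS => ?_⟩⟩, rfl⟩
  · have hax : a * x ∈ V := mul_mem ha (hS0V hxS)
    have hax1 : a * x ≠ 1 := fun e => hanot (by
      rw [eq_inv_of_mul_eq_one_left e]; exact inv_mem (hS0H0 hxS))
    set T : Set Q := (fun s => a * s) '' (S0 : Set Q) with hT
    have hTcard : Nat.card T = 4 := by
      rw [hT, Nat.card_image_of_injective (fun _ _ e => mul_left_cancel e)]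
      exact hS0card
    have hiff : ∀ g : Q, a * (g⁻¹ * (a * x) * g) ∈ H0 ↔ g⁻¹ * (a * x) * g ∈ T := by
      intro g
      have hgV : g⁻¹ * (a * x) * g ∈ V := by
        simpa using Normal.conj_mem ‹V.Normal› _ hax g⁻¹
      refine ⟨fun h => ⟨_, hlam1 _ h (hlamV _ (mul_mem ha hgV)), ?_⟩, ?_⟩
      · show a * (a * (g⁻¹ * (a * x) * g)) = _
        rw [← mul_assoc, haa, one_mul]
      · rintro ⟨s, hs, e⟩
        rw [← show a * s = g⁻¹ * (a * x) * g from e, ← mul_assoc, haa, one_mul]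
        exact hS0H0 hs
    rw [Nat.card_congr (Equiv.subtypeEquivRight hiff), card_conjugators (a * x) T ?_, hTcard,
      hcentcard _ hax hax1]
    rintro _ ⟨s, hs, rfl⟩
    have has1 : a * s ≠ 1 := fun e => hanot (by
      rw [eq_inv_of_mul_eq_one_left e]; exact inv_mem (hS0H0 hs))
    obtain ⟨g, hg⟩ := htrans _ hax hax1
    obtain ⟨g', hg'⟩ := htrans _ (mul_mem ha (hS0V hs)) has1
    exact ⟨g⁻¹ * g', by show _ = a * s; rw [← hg', ← hg]; group⟩
  · rw [← hHcard]
    refine Nat.card_congr (Equiv.subtypeEquivRight fun g => ?_)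
    set H := centralizer ({a} : Set Q)
    constructor
    · intro h
      set x' := a * (g⁻¹ * (a * x) * g) with hx'
      have hx'S : x' ∉ S0 := fun hS => by
        have h1 : g⁻¹ * (a * x) * g ∈ V := by
          have := mul_mem ha (hS0V hS)
          rwa [hx', ← mul_assoc, haa, one_mul] at this
        have h2 : a * x ∈ V := by
          simpa [mul_assoc] using Normal.conj_mem ‹V.Normal› _ h1 g
        exact hxS (hlam1 x hx (by
          have := hlamV _ h2
          rwa [map_mul, hlamV a ha, one_mul] at this))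
      have hc1 : Commute a x := (mem_centralizer_singleton_iff.1 (hH0le hx)).symm
      have hc2 : Commute a x' := (mem_centralizer_singleton_iff.1 (hH0le h)).symm
      have ha3 : a ^ 3 = a := by rw [pow_succ, hsq a ha, one_mul]
      have e : g⁻¹ * (a * x) * g = a * x' := by rw [hx', ← mul_assoc a a, haa, one_mul]
      have e3 := congrArg (fun z => z ^ 3) e
      rw [hc2.mul_pow, hcube x' h hx'S, mul_one, ha3,
        show g⁻¹ * (a * x) * g = g⁻¹ * (a * x) * (g⁻¹)⁻¹ by rw [inv_inv], conj_pow, hc1.mul_pow,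
        hcube x hx hxS, mul_one, ha3, inv_inv] at e3
      refine mem_centralizer_singleton_iff.2 ?_
      conv_lhs => rw [← e3]
      group
    · intro hg
      have hga : g⁻¹ * a = a * g⁻¹ := mem_centralizer_singleton_iff.1 (inv_mem hg)
      have : a * (g⁻¹ * (a * x) * g) = g⁻¹ * x * g := by
        calc a * (g⁻¹ * (a * x) * g) = a * ((g⁻¹ * a) * x * g) := by group
          _ = a * ((a * g⁻¹) * x * g) := by rw [hga]
          _ = (a * a) * (g⁻¹ * x * g) := by group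
          _ = _ := by rw [haa, one_mul]
      rw [this]
      have hn : ((H0.subgroupOf H)).Normal := Subgroup.normal_of_index_eq_two (by
        have h := (H0.subgroupOf H).index_mul_card
        rw [Nat.card_congr (subgroupOfEquivOfLe hH0le).toEquiv, hH0card, hHcard] at h
        omega)
      have := hn.conj_mem ⟨x, hH0le hx⟩ (mem_subgroupOf.2 hx) (⟨g, hg⟩⁻¹ : H)
      rw [mem_subgroupOf] at this
      simpa only [Subgroup.coe_mul, InvMemClass.coe_inv, inv_inv] using this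

end Cfsg.Agent.H85.ElemEight
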