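import Cfsg.Agent.H85.ElemEight.Strong
import Cfsg.Agent.H85.ElemEight.Datum

/-!
# The quotient of the strongly embedded subgroup when the automizer has order twenty-one
-/

set_option autoImplicit false
set_option linter.unusedSectionVars false
set_option linter.style.haveILetI false

namespace Cfsg.Agent.H85.ElemEight

open Subgroup Cfsg

universe u

variable {G : Type u} [Group G] [Finite G] {P : Sylow 2 G}

theorem bigW_normal : ((bigW P).subgroupOf (bigM P)).Normal :=
  normal_subgroupOf_of_le_normalizer bigM_le_normalizer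

theorem mem_bigM_iff {x : G} : x ∈ bigM P ↔
    ∃ w ∈ bigW P, ∃ n ∈ normalizer ((P : Subgroup G) : Set G), x = w * n := by
  constructor
  · intro hx
    rw [bigM, ← SetLike.mem_coe, coe_mul_of_right_le_normalizer_left _ _
      normalizer_le_normalizer_bigW] at hx
    obtain ⟨w, hw, n, hn, e⟩ := hx
    exact ⟨w, hw, n, hn, e.symm⟩
  · rintro ⟨w, hw, n, hn, rfl⟩
    exact mul_mem (bigW_le_bigM hw) (normalizer_le_bigM hn)

/-- The coherent data on the strongly embedded subgroup, with the shapes of its cosets. -/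
theorem Hyp.exists_setup (h : Hyp P)
    (h21 : (centralizer ((P : Subgroup G) : Set G)).relIndex
      (normalizer ((P : Subgroup G) : Set G)) = 21)
    {a : G} (ha : a ∈ (P : Subgroup G)) (ha1 : a ≠ 1) :
    ∃ D : Datum (bigM P), (D.a : G) = a ∧
      (∀ w : bigM P, (w : G) ∈ bigW P → w ∈ D.S0) ∧
      (∀ s ∈ D.S0, ∃ b ∈ (P : Subgroup G), b ≠ 1 ∧ ∃ w ∈ bigW P, a * (s : G) = b * w) ∧
      (∀ x ∈ D.H0, ∃ b ∈ (P : Subgroup G), b ≠ 1 ∧ ∃ c ∈ centralizer ({b} : Set G),
        c ∈ bigM P ∧ Odd (orderOf c) ∧ ∃ w ∈ bigW P, a * (x : G) = b * c * w) := by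
  classical
  haveI : Fact (Nat.Prime 2) := ⟨Nat.prime_two⟩
  set M := bigM P with hM
  set W' : Subgroup M := (bigW P).subgroupOf M with hW'
  haveI : W'.Normal := bigW_normal
  set q := QuotientGroup.mk' W' with hq
  have hqs : Function.Surjective q := QuotientGroup.mk'_surjective W'
  have hWodd : Odd (Nat.card (bigW P)) := h.closure_spec.1
  have hW'card : Nat.card W' = Nat.card (bigW P) :=
    Nat.card_congr (subgroupOfEquivOfLe bigW_le_bigM).toEquiv
  have hW'co : (Nat.card W').Coprime 2 := by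
    rw [hW'card]; exact Nat.coprime_two_right.2 hWodd
  have hq1 : ∀ {x : M}, q x = 1 ↔ (x : G) ∈ bigW P := fun {x} => by
    rw [hq, QuotientGroup.mk'_apply, QuotientGroup.eq_one_iff, hW', mem_subgroupOf]
  set P' : Subgroup M := (P : Subgroup G).subgroupOf M with hP'
  set V : Subgroup (M ⧸ W') := P'.map q with hV
  have hinj : ∀ x ∈ P', q x = 1 → x = 1 := fun x hx hx1 =>
    Subtype.ext (h.eq_one_of_mem hx (hq1.1 hx1))
  have hVcard : Nat.card V = 8 := by
    rw [← h.card, ← Nat.card_congr (subgroupOfEquivOfLe (sylow_le_bigM (P := P))).toEquiv]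
    refine (Nat.card_eq_of_bijective (fun x : P' => (⟨q x, mem_map_of_mem q x.2⟩ : V)) ⟨?_, ?_⟩).symm
    · intro x y e
      have e' : q x = q y := congrArg Subtype.val e
      have := hinj _ (mul_mem (inv_mem x.2) y.2)
        (by rw [map_mul, map_inv, e', inv_mul_cancel])
      exact Subtype.ext (inv_mul_eq_one.1 this)
    · rintro ⟨_, x, hx, rfl⟩
      exact ⟨⟨x, hx⟩, rfl⟩
  have hVsq : ∀ v ∈ V, v ^ 2 = 1 := by
    rintro _ ⟨x, hx, rfl⟩
    rw [← map_pow, show x ^ 2 = 1 from Subtype.ext (h.sq _ hx), map_one]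
  have hVcomm : ∀ v ∈ V, ∀ w ∈ V, v * w = w * v := by
    rintro _ ⟨x, hx, rfl⟩ _ ⟨y, hy, rfl⟩
    rw [← map_mul, ← map_mul, show x * y = y * x from Subtype.ext (h.comm _ hx _ hy)]
  have hPp : IsPGroup 2 P' := P.isPGroup'.comap_subtype (K := M)
  have hVC : centralizer (V : Set (M ⧸ W')) ≤ V := by
    rw [hV, ← Cores.map_centralizer_of_coprime W' hW'co hPp]
    rintro _ ⟨c, hc, rfl⟩
    obtain ⟨a', ha', ha'1⟩ := h.exists_ne_one
    have hcC : (c : G) ∈ centralizer ((P : Subgroup G) : Set G) := mem_centralizer_iff.2 fun y hy =>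
      congrArg Subtype.val (mem_centralizer_iff.1 hc ⟨y, sylow_le_bigM hy⟩ hy)
    have hc' : (c : G) ∈ bigW P ⊔ (P : Subgroup G) :=
      sup_le_sup_right (coreAt_le_bigW ha' ha'1) _ ((h.centralizer_facts ha' ha'1).2 hcC)
    rw [← SetLike.mem_coe, coe_mul_of_right_le_normalizer_left _ _
      (le_normalizer.trans normalizer_le_normalizer_bigW)] at hc'
    obtain ⟨w, hw, v, hv, hwv⟩ := hc'
    refine ⟨⟨v, sylow_le_bigM hv⟩, hv, ?_⟩
    have e : c = (⟨w, bigW_le_bigM hw⟩ : M) * ⟨v, sylow_le_bigM hv⟩ := Subtype.ext hwv.symm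
    rw [e, map_mul, show q ⟨w, bigW_le_bigM hw⟩ = 1 from hq1.2 hw, one_mul]
  set N := normalizer ((P : Subgroup G) : Set G) with hN
  set ψ : N →* M ⧸ W' := q.comp (Subgroup.inclusion normalizer_le_bigM) with hψ
  have hψs : Function.Surjective ψ := by
    intro z
    obtain ⟨x, rfl⟩ := hqs z
    obtain ⟨w, hw, n, hn, e⟩ := mem_bigM_iff.1 x.2
    refine ⟨⟨n, hn⟩, ?_⟩
    have e' : x = (⟨w, bigW_le_bigM hw⟩ : M) * ⟨n, normalizer_le_bigM hn⟩ := Subtype.ext e
    rw [e', map_mul, show q ⟨w, bigW_le_bigM hw⟩ = 1 from hq1.2 hw, one_mul]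
    rfl
  haveI hVn : V.Normal := by
    refine ⟨fun v hv z => ?_⟩
    obtain ⟨n, rfl⟩ := hψs z
    obtain ⟨x, hx, rfl⟩ := hv
    refine ⟨Subgroup.inclusion normalizer_le_bigM n * x * (Subgroup.inclusion normalizer_le_bigM n)⁻¹,
      (mem_normalizer_iff.1 n.2 _).1 hx, ?_⟩
    rw [map_mul, map_mul, map_inv]
    rfl
  have hidx : V.index = 21 := by
    rw [← h21, relIndex, ← index_comap_of_surjective V hψs]
    congr 1
    ext n
    simp only [mem_comap, mem_subgroupOf]
    constructor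
    · rintro ⟨x, hx, hxn⟩
      refine mem_centralizer_iff.2 fun y hy => ?_
      have hxn' : q x = ψ n := hxn
      have hcy : (n : G) * y * (n : G)⁻¹ ∈ (P : Subgroup G) := (mem_normalizer_iff.1 n.2 y).1 hy
      set y' : M := ⟨y, sylow_le_bigM hy⟩
      set n' : M := Subgroup.inclusion normalizer_le_bigM n
      have h1 : (n' * y' * n'⁻¹ * y'⁻¹) ∈ P' := mul_mem hcy (inv_mem hy)
      have h2 : q (n' * y' * n'⁻¹ * y'⁻¹) = 1 := by
        have hh := hVcomm _ (mem_map_of_mem q hx) _ (mem_map_of_mem q (show y' ∈ P' from hy))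
        simp only [map_mul, map_inv]
        rw [show q n' = q x from hxn'.symm, hh, mul_inv_cancel_right, mul_inv_cancel]
      have h3 : (n : G) * y * (n : G)⁻¹ * y⁻¹ = 1 := congrArg Subtype.val (hinj _ h1 h2)
      exact ((mul_inv_eq_iff_eq_mul).1 ((mul_inv_eq_one).1 h3)).symm
    · intro hn
      refine hVC (mem_centralizer_iff.2 ?_)
      rintro _ ⟨x, hx, rfl⟩
      show q x * q (Subgroup.inclusion normalizer_le_bigM n) =
        q (Subgroup.inclusion normalizer_le_bigM n) * q x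
      rw [← map_mul, ← map_mul]
      exact congrArg q (Subtype.ext (mem_centralizer_iff.1 hn _ hx))
  have hQ : Nat.card (M ⧸ W') = 168 := by
    rw [← V.index_mul_card, hidx, hVcard]
  set a0 : M := ⟨a, sylow_le_bigM ha⟩ with ha0
  have haV : q a0 ∈ V := mem_map_of_mem q ha
  have haV1 : q a0 ≠ 1 := fun e => ha1 (h.eq_one_of_mem ha (hq1.1 e))
  have htrans : ∀ b ∈ V, b ≠ 1 → ∃ g : M ⧸ W', g⁻¹ * q a0 * g = b := by
    rintro _ ⟨x, hx, rfl⟩ hb1
    have hx1 : (x : G) ≠ 1 := fun e => hb1 (by rw [show x = 1 from Subtype.ext e, map_one])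
    obtain ⟨n, hn, hna⟩ := h.transitive (by rw [h21]; norm_num) ha ha1 hx hx1
    refine ⟨(q ⟨n, normalizer_le_bigM hn⟩)⁻¹, ?_⟩
    rw [inv_inv, ← map_inv, ← map_mul, ← map_mul]
    exact congrArg q (Subtype.ext hna)
  obtain ⟨L, hLV⟩ := exists_line V hVcard hVsq hVcomm hVC hQ haV haV1 htrans
  let D : Datum M := Datum.ofLine q hqs (a := a0)
    (Subtype.ext (by show a * a = 1; rw [← pow_two, h.sq a ha])) L (hLV.symm ▸ haV)
  have hS0mem : ∀ s : M, s ∈ D.S0 → ∃ b ∈ (P : Subgroup G), b ≠ 1 ∧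
      ∃ w ∈ bigW P, a * (s : G) = b * w := by
    intro s hs
    have hsV : q s ∈ V := hLV ▸ L.S0_le_V hs
    obtain ⟨v, hv, hvs⟩ := hsV
    refine ⟨a * (v : G), mul_mem ha hv, fun e => ?_, (v : G)⁻¹ * (s : G), ?_, by group⟩
    · have hav : q a0 * q s = 1 := by
        rw [← hvs, ← map_mul, show a0 * v = 1 from Subtype.ext e, map_one]
      have hm : (q s)⁻¹ ∈ L.H0 := inv_mem (L.S0_le hs)
      exact D.not_mem (show q a0 ∈ L.H0 by
        convert hm using 1; exact eq_inv_of_mul_eq_one_left hav)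
    · exact hq1.1 (show q (v⁻¹ * s) = 1 by rw [map_mul, map_inv, hvs, inv_mul_cancel])
  refine ⟨D, rfl, fun w hw => ?_, hS0mem, fun x hx => ?_⟩
  · show q w ∈ L.S0
    rw [hq1.2 hw]
    exact one_mem _
  · by_cases hxS : x ∈ D.S0
    · obtain ⟨b, hb, hb1, w, hw, e⟩ := hS0mem x hxS
      exact ⟨b, hb, hb1, 1, one_mem _, one_mem _, by rw [orderOf_one]; exact odd_one, w, hw,
        by rw [mul_one]; exact e⟩
    · have hza : IsPGroup 2 (zpowers a0) :=
        hPp.to_le (zpowers_le.2 (show a0 ∈ P' from ha))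
      have hqx : q x ∈ centralizer (((zpowers a0).map q : Subgroup (M ⧸ W')) : Set (M ⧸ W')) := by
        rw [MonoidHom.map_zpowers, H40.centralizer_zpowers_eq]
        exact L.le_cent hx
      rw [← Cores.map_centralizer_of_coprime W' hW'co hza, H40.centralizer_zpowers_eq] at hqx
      obtain ⟨c, hc, hcx⟩ := hqx
      refine ⟨a, ha, ha1, c, mem_centralizer_singleton_iff.2
        (congrArg Subtype.val (mem_centralizer_singleton_iff.1 hc)), c.2, ?_,
        (c : G)⁻¹ * (x : G), hq1.1 (show q (c⁻¹ * x) = 1 by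
          rw [map_mul, map_inv, hcx, inv_mul_cancel]), by group⟩
      have hc3 : (c : G) ^ 3 ∈ bigW P := hq1.1 (show q (c ^ 3) = 1 by
        rw [map_pow, hcx]; exact L.cube _ hx hxS)
      have hodd3 : Odd (orderOf ((c : G) ^ 3)) := by
        rw [← orderOf_mk _ hc3]
        exact hWodd.of_dvd_nat (orderOf_dvd_natCard _)
      refine (Odd.mul (show Odd 3 by decide) hodd3).of_dvd_nat ?_
      refine orderOf_dvd_of_pow_eq_one ?_
      rw [pow_mul, pow_orderOf_eq_one]

end Cfsg.Agent.H85.ElemEight
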